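import Cfsg.Agent.Lib.Involutions.BrauerSuzuki
import Cfsg.Agent.Lib.CoreKill.Applications
import Cfsg.Agent.Lib.PF.OddOrder
import Cfsg.Agent.Lib.PSL2.Basic
import Cfsg.Agent.S4273
import Cfsg.Agent.S0457
import Cfsg.Prelude.Def_Spor_J1

/-!
Groups in which abelian subgroups of equal order are conjugate: a simple normal subgroup has elementary
abelian Sylow 2-subgroups and automorphisms fusing its subgroups of order three.
-/

set_option autoImplicit false
set_option linter.unusedSectionVars false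

namespace CfsgLib.EqualOrderConj

open Subgroup

universe u

/-- Abelian subgroups of equal order are conjugate. -/
def AbelianConj (G : Type u) [Group G] : Prop :=
  ∀ A B : Subgroup G, IsMulCommutative ↥A → IsMulCommutative ↥B →
    Nat.card ↥A = Nat.card ↥B → ∃ g : G, B = A.map (MulAut.conj g).toMonoidHom

variable {G : Type u} [Group G] [Finite G]

local instance factTwoBasic : Fact (Nat.Prime 2) := ⟨Nat.prime_two⟩

/-- A cyclic subgroup is not conjugate to one of smaller exponent. -/
theorem pow_eq_one_of_conj (hB : AbelianConj G) {x : G} {A : Subgroup G} {n : ℕ}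
    (hA : IsMulCommutative ↥A) (hcard : Nat.card ↥A = orderOf x) (hn : ∀ a ∈ A, a ^ n = 1) :
    x ^ n = 1 := by
  obtain ⟨g, hg⟩ := hB (zpowers x) A inferInstance hA (by rw [Nat.card_zpowers, hcard])
  have h := hn (MulAut.conj g x) (hg ▸ mem_map_of_mem _ (mem_zpowers x))
  rw [← map_pow] at h
  exact (map_eq_one_iff _ (MulAut.conj g).injective).1 h

theorem exists_four {s t : G} (hs : orderOf s = 2) (ht : orderOf t = 2) (hc : Commute s t) (hne : s ≠ t) :
    ∃ A : Subgroup G, IsMulCommutative ↥A ∧ Nat.card ↥A = 4 ∧ (∀ a ∈ A, a ^ 2 = 1) ∧ s ∈ A ∧ t ∈ A := by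
  classical
  have hs2 : s * s = 1 := CfsgLib.Involutions.mul_self_eq_one hs
  have ht2 : t * t = 1 := CfsgLib.Involutions.mul_self_eq_one ht
  have hs1 : s ≠ 1 := fun e => by rw [e, orderOf_one] at hs; norm_num at hs
  have ht1 : t ≠ 1 := fun e => by rw [e, orderOf_one] at ht; norm_num at ht
  have hst : s * t ≠ 1 := fun e => hne (mul_right_cancel (e.trans ht2.symm))
  have h1 : t * (s * t) = s := by rw [← mul_assoc, ← hc.eq, mul_assoc, ht2, mul_one]
  have h2 : s * (s * t) = t := by rw [← mul_assoc, hs2, one_mul]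
  have h3 : s * t * s = t := by rw [hc.eq, mul_assoc, hs2, mul_one]
  have h4 : s * t * t = s := by rw [mul_assoc, ht2, mul_one]
  have h5 : s * t * (s * t) = 1 := by rw [← mul_assoc, h3, ht2]
  let A : Subgroup G :=
    { carrier := {a | a = 1 ∨ a = s ∨ a = t ∨ a = s * t}
      one_mem' := Or.inl rfl
      mul_mem' := by
        rintro a b (rfl | rfl | rfl | rfl) (rfl | rfl | rfl | rfl) <;>
          simp [hs2, ht2, h1, h2, h3, h4, h5, hc.eq.symm]
      inv_mem' := by
        rintro a (rfl | rfl | rfl | rfl)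
        · exact Or.inl inv_one
        · exact Or.inr (Or.inl (inv_eq_of_mul_eq_one_right hs2))
        · exact Or.inr (Or.inr (Or.inl (inv_eq_of_mul_eq_one_right ht2)))
        · exact Or.inr (Or.inr (Or.inr (inv_eq_of_mul_eq_one_right h5))) }
  have hsq : ∀ a ∈ A, a ^ 2 = 1 := by
    rintro a (rfl | rfl | rfl | rfl) <;> rw [pow_two]
    · exact one_mul 1
    · exact hs2
    · exact ht2
    · exact h5
  refine ⟨A, ⟨⟨fun a b => Subtype.ext ?_⟩⟩, ?_, hsq, Or.inr (Or.inl rfl), Or.inr (Or.inr (Or.inl rfl))⟩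
  · have e : ∀ z ∈ A, z⁻¹ = z := fun z hz => inv_eq_of_mul_eq_one_right (by rw [← pow_two]; exact hsq z hz)
    show (a : G) * b = b * a
    calc (a : G) * b = ((a : G) * b)⁻¹ := (e _ (mul_mem a.2 b.2)).symm
      _ = b * a := by rw [_root_.mul_inv_rev, e _ a.2, e _ b.2]
  · rw [show Nat.card ↥A = Nat.card {z : G // z ∈ ({1, s, t, s * t} : Finset G)} from
      Nat.card_congr (Equiv.subtypeEquivRight fun z => by
        show (z = 1 ∨ z = s ∨ z = t ∨ z = s * t) ↔ _
        simp)]
    letI := Fintype.ofFinite G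
    rw [Nat.card_eq_fintype_card, Fintype.card_coe,
      Finset.card_insert_of_notMem (by simp [hs1.symm, ht1.symm, hst.symm]),
      Finset.card_insert_of_notMem (by simp [hne, ht1]),
      Finset.card_pair (by simp [hs1])]

variable (M : Subgroup G) (hs : IsSimpleGroup ↥M) (hna : ¬ IsMulCommutative ↥M)

include hs hna in
theorem even_card : 2 ∣ Nat.card ↥M := by
  by_contra h
  haveI := hs
  haveI := CfsgLib.PF.oddSolvable ↥M (Nat.not_even_iff_odd.1 fun e => h (even_iff_two_dvd.1 e))
  exact hna ⟨⟨fun a b => IsSimpleGroup.comm_iff_isSolvable.2 inferInstance a b⟩⟩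

include hs hna in
/-- There are no elements of order four. -/
theorem sq_eq_one (hB : AbelianConj G) (x : G) (hx : x ^ 4 = 1) : x ^ 2 = 1 := by
  by_contra hx2
  have hx4 : orderOf x = 2 ^ (1 + 1) := orderOf_eq_prime_pow hx2 hx
  have huniq : ∀ s t : G, orderOf s = 2 → orderOf t = 2 → Commute s t → s = t := by
    intro s t hs ht hc
    by_contra hne
    obtain ⟨A, hA, hAc, hA2, -, -⟩ := exists_four hs ht hc hne
    exact hx2 (pow_eq_one_of_conj hB hA (by rw [hAc, hx4]; norm_num) hA2)
  haveI := hs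
  obtain ⟨i, hi⟩ := exists_prime_orderOf_dvd_card' (G := ↥M) 2 (even_card M hs hna)
  have hz := CfsgLib.Involutions.inZStar_of_rank_one
    (CfsgLib.Involutions.rank_one_subgroup huniq M) hi
  have hO : Cfsg.pPrimeCore 2 ↥M = ⊥ := CoreKill.oddCore_eq_bot_of_simple hi
  have hcen : i ∈ center ↥M := mem_center_iff.2 fun g => by
    have := hz g
    rw [hO, mem_bot, mul_inv_eq_one] at this
    exact mul_inv_eq_iff_eq_mul.1 this
  rcases (inferInstance : (center ↥M).Normal).eq_bot_or_eq_top with hb | htop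
  · rw [hb, mem_bot] at hcen
    rw [hcen, orderOf_one] at hi
    norm_num at hi
  · exact hna (center_eq_top_iff.1 htop)

include hs hna in
theorem sq_eq_one_of_isPGroup (hB : AbelianConj G) {P : Subgroup G} (hP : IsPGroup 2 P) {x : G}
    (hx : x ∈ P) : x ^ 2 = 1 := by
  obtain ⟨k, hk⟩ := hP ⟨x, hx⟩
  have hk' : x ^ 2 ^ k = 1 := by simpa using congrArg Subtype.val hk
  have key : ∀ j : ℕ, ∀ y : G, y ^ 2 ^ (j + 1) = 1 → y ^ 2 = 1 := by
    intro j
    induction j with
    | zero => intro y hy; simpa using hy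
    | succ j ih =>
      intro y hy
      refine ih y ?_
      rw [pow_succ, pow_mul]
      refine sq_eq_one M hs hna hB _ ?_
      rw [← pow_mul, show 2 ^ j * 4 = 2 ^ (j + 1 + 1) by ring, hy]
  rcases k with _ | k
  · rw [pow_zero, pow_one] at hk'
    rw [hk', one_pow]
  · exact key k x hk'

include hs hna in
theorem sylow_elementary (hB : AbelianConj G) (S : Sylow 2 ↥M) :
    (∀ x ∈ (S : Subgroup ↥M), x ^ 2 = 1) ∧ IsMulCommutative ↥(S : Subgroup ↥M) := by
  have h1 : ∀ x ∈ (S : Subgroup ↥M), x ^ 2 = 1 := fun x hx => Subtype.ext (by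
    rw [SubmonoidClass.coe_pow, OneMemClass.coe_one]
    exact sq_eq_one_of_isPGroup M hs hna hB (S.2.map M.subtype) (mem_map_of_mem _ hx))
  refine ⟨h1, ⟨⟨fun a b => Subtype.ext ?_⟩⟩⟩
  have e : ∀ z ∈ (S : Subgroup ↥M), z⁻¹ = z := fun z hz =>
    inv_eq_of_mul_eq_one_right (by rw [← pow_two]; exact h1 z hz)
  show (a : ↥M) * b = b * a
  calc (a : ↥M) * b = ((a : ↥M) * b)⁻¹ := (e _ (mul_mem a.2 b.2)).symm
    _ = b * a := by rw [_root_.mul_inv_rev, e _ a.2, e _ b.2]

/-- Elements of order three of `M` are alike under automorphisms. -/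
theorem exists_aut [M.Normal] (hB : AbelianConj G) (y z : ↥M) (hy : orderOf y = 3) (hz : orderOf z = 3) :
    ∃ φ : ↥M ≃* ↥M, φ y = z ∨ φ y = z⁻¹ := by
  classical
  have hy' : orderOf (y : G) = 3 := by rw [orderOf_coe, hy]
  have hz' : orderOf (z : G) = 3 := by rw [orderOf_coe, hz]
  obtain ⟨g, hg⟩ := hB (zpowers (y : G)) (zpowers (z : G)) inferInstance inferInstance
    (by rw [Nat.card_zpowers, Nat.card_zpowers, hy', hz'])
  refine ⟨MulAut.conjNormal g, ?_⟩
  have hm : g * (y : G) * g⁻¹ ∈ zpowers (z : G) := hg ▸ mem_map_of_mem _ (mem_zpowers (y : G))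
  obtain ⟨j, hj, hje⟩ := Finset.mem_image.1 ((isOfFinOrder_of_finite (z : G)).mem_zpowers_iff_mem_range_orderOf.1 hm)
  rw [hz', Finset.mem_range] at hj
  interval_cases j
  · exfalso
    rw [pow_zero] at hje
    rw [conj_eq_one_iff.1 hje.symm, orderOf_one] at hy'
    norm_num at hy'
  · exact Or.inl (Subtype.ext (by rw [MulAut.conjNormal_apply, ← hje, pow_one]))
  · refine Or.inr (Subtype.ext ?_)
    rw [MulAut.conjNormal_apply, ← hje, InvMemClass.coe_inv]
    exact (inv_eq_of_mul_eq_one_right (by rw [← pow_succ', show 2 + 1 = orderOf (z : G) from hz'.symm, pow_orderOf_eq_one])).symm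

/-- A simple group is not of order twelve. -/
theorem card_ne_twelve {X : Type u} [Group X] [Finite X] [IsSimpleGroup X] : Nat.card X ≠ 12 := by
  classical
  intro h
  obtain ⟨P⟩ : Nonempty (Sylow 2 X) := inferInstance
  have hP4 : Nat.card (P : Subgroup X) = 4 := by
    rw [P.card_eq_multiplicity, h, show (12 : ℕ) = 2 ^ 2 * 3 by norm_num,
      Nat.factorization_mul (by norm_num) (by norm_num), Finsupp.add_apply,
      Nat.prime_two.factorization_pow, Finsupp.single_eq_same,
      Nat.factorization_eq_zero_of_not_dvd (show ¬ 2 ∣ 3 by norm_num)]; norm_num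
  have hd : Nat.card (Sylow 2 X) ∣ 3 := by
    have := Sylow.card_dvd_index P
    have hi := (P : Subgroup X).card_mul_index
    rw [hP4, h] at hi
    rwa [show (P : Subgroup X).index = 3 by omega] at this
  have hker := (MulAction.toPermHom X (Sylow 2 X)).normal_ker.eq_bot_or_eq_top
  rcases hker with hb | ht
  · have hle := Nat.card_le_card_of_injective _ ((MonoidHom.ker_eq_bot_iff _).1 hb)
    rw [h, Nat.card_perm] at hle
    have := Nat.factorial_le (Nat.le_of_dvd (by norm_num) hd)
    rw [show Nat.factorial 3 = 6 from rfl] at this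
    omega
  · have hn : (P : Subgroup X).Normal := by
      refine normalizer_eq_top_iff.1 (eq_top_iff.2 fun g _ => Sylow.smul_eq_iff_mem_normalizer.1 ?_)
      have : g ∈ (MulAction.toPermHom X (Sylow 2 X)).ker := ht ▸ mem_top g
      exact congrArg (fun f : Equiv.Perm (Sylow 2 X) => f P) this
    rcases hn.eq_bot_or_eq_top with e | e
    · rw [e, card_bot] at hP4; omega
    · rw [e, card_top, h] at hP4; omega

theorem isoJ1_of_isJ1 {X : Type u} [Group X] [Finite X] (h : Cfsg.IsJ1 X) : Cfsg.Spor.IsoJ1 X := by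
  obtain ⟨x, y, hx, hy, hJ⟩ := Cfsg.Agent.S0457.result
  have ex : x = Cfsg.Spor.jankoX := Units.ext hx
  have ey : y = Cfsg.Spor.jankoY := Units.ext hy
  subst ex ey
  haveI := h.1
  haveI : IsSimpleGroup ↥Cfsg.Spor.J1 := hJ.1
  exact Cfsg.Agent.S4273.result h.2 hJ.2

end CfsgLib.EqualOrderConj
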