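import Cfsg.Agent.Lib.SL2Tori.Borel

/-!
`SL(2, 2 ^ a)` normal in a group in which abelian subgroups of order four are conjugate and whose Sylow
2-subgroups have exponent two forces `a ∈ {2, 3, 5}`: the Sylow normaliser acts on the root group by
semilinear maps.
-/

set_option autoImplicit false
set_option linter.unusedSectionVars false

namespace CfsgLib.EqualOrderConj

open Subgroup Matrix CfsgLib.SL2Tori

universe u

variable {G : Type u} [Group G] [Finite G] {F : Type} [Field F] [Fintype F] [CharP F 2]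

local notation "SL2" => Matrix.SpecialLinearGroup (Fin 2) F
local notation "M2" => Matrix (Fin 2) (Fin 2) F

local instance factTwoPow : Fact (Nat.Prime 2) := ⟨Nat.prime_two⟩

/-- The four elements of a plane over the prime field. -/
def plane (u v : F) : AddSubgroup F where
  carrier := {z | z = 0 ∨ z = u ∨ z = v ∨ z = u + v}
  zero_mem' := Or.inl rfl
  add_mem' := by
    have h : ∀ z : F, z + z = 0 := fun z => CharTwo.add_self_eq_zero z
    have h' : ∀ p z : F, p + (p + z) = z := fun p z => by rw [← add_assoc, h, zero_add]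
    rintro a b (rfl | rfl | rfl | rfl) (rfl | rfl | rfl | rfl) <;>
      simp [h, h', add_comm, add_left_comm]
  neg_mem' := by
    intro a ha
    rwa [CharTwo.neg_eq]

theorem mem_plane {u v z : F} : z ∈ plane u v ↔ z = 0 ∨ z = u ∨ z = v ∨ z = u + v := Iff.rfl

theorem card_plane {u v : F} (hu : u ≠ 0) (hv : v ≠ 0) (huv : u ≠ v) : Nat.card (plane u v) = 4 := by
  classical
  have hsum : u + v ≠ 0 := fun e => huv (by rwa [add_eq_zero_iff_eq_neg, CharTwo.neg_eq] at e)
  letI : Fintype (plane u v) := Fintype.ofFinite _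
  rw [show Nat.card (plane u v) = Nat.card {z : F // z ∈ ({0, u, v, u + v} : Finset F)} from
    Nat.card_congr (Equiv.subtypeEquivRight fun z => by simp [mem_plane])]
  rw [Nat.card_eq_fintype_card, Fintype.card_coe]
  rw [Finset.card_insert_of_notMem (by simp [hu.symm, hv.symm, hsum.symm]),
    Finset.card_insert_of_notMem (by simp [huv, hv]), Finset.card_pair (by simp [hu])]

/-- The root group. -/
def rootHom : Multiplicative F →* SL2 where
  toFun x := (bEl (1 : Fˣ) (Multiplicative.toAdd x) : SL2)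
  map_one' := Subtype.ext (by simp [Matrix.one_fin_two])
  map_mul' x y := Subtype.ext (by
    simp only [Matrix.SpecialLinearGroup.coe_mul, bEl_coe, toAdd_mul]
    ext i j
    fin_cases i <;> fin_cases j <;> simp [add_comm])

theorem rootHom_apply (x : F) : rootHom (Multiplicative.ofAdd x) = (bEl (1 : Fˣ) x : SL2) := rfl

theorem rootHom_injective : Function.Injective (rootHom (F := F)) := fun x y e => by
  have := congrArg (fun g : SL2 => (g : M2) 0 1) e
  simp [rootHom] at this
  exact Multiplicative.toAdd.injective this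

theorem torus_conj (a : Fˣ) (x : F) :
    (bEl a 0 : SL2) * (bEl (1 : Fˣ) x : SL2) * (bEl a 0 : SL2)⁻¹ = (bEl (1 : Fˣ) ((a : F) * a * x) : SL2) := by
  rw [mul_inv_eq_iff_eq_mul]
  refine Subtype.ext ?_
  simp only [Matrix.SpecialLinearGroup.coe_mul, bEl_coe]
  have ha : (a : F) ≠ 0 := a.ne_zero
  ext i j
  fin_cases i <;> fin_cases j <;> simp [ha] <;> field_simp

/-- Elements of `SL(2, q)` normalising the root group act on it by scalars. -/
theorem exists_scalar {b : SL2} (hb : ∀ x : F, ∃ y : F, b * (bEl (1 : Fˣ) x : SL2) * b⁻¹ = (bEl (1 : Fˣ) y : SL2)) :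
    ∃ k : F, ∀ x : F, b * (bEl (1 : Fˣ) x : SL2) * b⁻¹ = (bEl (1 : Fˣ) (k * x) : SL2) := by
  obtain ⟨y, hy⟩ := hb 1
  rw [mul_inv_eq_iff_eq_mul] at hy
  have e := congrArg (fun g : SL2 => (g : M2)) hy
  simp only [Matrix.SpecialLinearGroup.coe_mul, bEl_coe] at e
  have e11 := congrFun (congrFun e 1) 1
  simp [Matrix.mul_apply, Fin.sum_univ_two] at e11
  have hd := b.2
  rw [Matrix.det_fin_two, e11, mul_zero, sub_zero] at hd
  refine ⟨(b : M2) 0 0 * (b : M2) 0 0, fun x => ?_⟩
  rw [mul_inv_eq_iff_eq_mul]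
  refine Subtype.ext ?_
  simp only [Matrix.SpecialLinearGroup.coe_mul, bEl_coe]
  ext i j
  fin_cases i <;> fin_cases j <;> simp [Matrix.mul_apply, Fin.sum_univ_two, e11]
  linear_combination -((b : M2) 0 0 * x) * hd

theorem card_ringEquiv_le {a : ℕ} (ha : Fintype.card F = 2 ^ a) : Nat.card (F ≃+* F) ≤ a := by
  classical
  letI : Algebra (ZMod 2) F := ZMod.algebra F 2
  have hr : Module.finrank (ZMod 2) F = a := by
    have h := Module.card_eq_pow_finrank (K := ZMod 2) (V := F)
    rw [ha, ZMod.card] at h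
    exact (Nat.pow_right_injective (le_refl 2) h).symm
  haveI : FiniteDimensional (ZMod 2) F := Module.Finite.of_finite
  rw [← hr, ← IsGalois.card_aut_eq_finrank (ZMod 2) F]
  refine Nat.card_le_card_of_injective
    (fun σ : F ≃+* F => AlgEquiv.ofRingEquiv (f := σ) fun r => by
      rw [← ZMod.natCast_zmod_val r, map_natCast, map_natCast]) fun σ τ h => RingEquiv.ext fun x => ?_
  exact congrArg (fun f : F ≃ₐ[ZMod 2] F => f x) h

variable (ι : Matrix.SpecialLinearGroup (Fin 2) F →* G) (hι : Function.Injective ι)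

include hι in
/-- The normaliser of the root group acts by semilinear maps. -/
theorem exists_semilinear (hN : ι.range.Normal) {g : G}
    (hg : ∀ x : F, ∃ y : F, g * ι (bEl (1 : Fˣ) x : SL2) * g⁻¹ = ι (bEl (1 : Fˣ) y : SL2)) :
    ∃ (k : Fˣ) (σ : F ≃+* F), ∀ x : F,
      g * ι (bEl (1 : Fˣ) x : SL2) * g⁻¹ = ι (bEl (1 : Fˣ) ((k : F) * σ x) : SL2) := by
  classical
  choose f hf using hg
  have hθ : ∀ x y : F, ι (bEl (1 : Fˣ) x : SL2) = ι (bEl (1 : Fˣ) y : SL2) → x = y := fun x y e =>
    Multiplicative.ofAdd.injective (rootHom_injective (hι e))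
  have hadd : ∀ x y, f (x + y) = f x + f y := fun x y => hθ _ _ (by
    rw [← hf, ← rootHom_apply, ofAdd_add, map_mul, rootHom_apply, rootHom_apply, map_mul,
      ← rootHom_apply (f x + f y), ofAdd_add, map_mul, rootHom_apply, rootHom_apply, map_mul, ← hf, ← hf]
    group)
  have hinj : Function.Injective f := fun x y e => hθ _ _ (by
    have h1 := hf x
    rw [e, ← hf y] at h1
    exact mul_left_cancel (mul_right_cancel h1))
  have hsurj : Function.Surjective f := Finite.injective_iff_surjective.1 hinj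
  have hscal : ∀ c : F, c ≠ 0 → ∃ d : F, ∀ x, f (c * x) = d * f x := by
    intro c hc
    obtain ⟨a, ha⟩ := (FiniteField.isSquare_of_char_two (ringChar.eq F 2) c)
    have ha0 : a ≠ 0 := fun e => hc (by rw [ha, e, mul_zero])
    obtain ⟨b, hb⟩ : g * ι (bEl (Units.mk0 a ha0) 0 : SL2) * g⁻¹ ∈ ι.range := hN.conj_mem _ ⟨_, rfl⟩ g
    have key : ∀ x, ι (b * (bEl (1 : Fˣ) (f x) : SL2) * b⁻¹) = ι (bEl (1 : Fˣ) (f (c * x)) : SL2) := by
      intro x
      rw [map_mul, map_mul, map_inv, ← hf x, ← hf (c * x), hb, ha,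
        show a * a * x = ((Units.mk0 a ha0 : Fˣ) : F) * (Units.mk0 a ha0 : Fˣ) * x from rfl,
        ← torus_conj (Units.mk0 a ha0) x, map_mul, map_mul, map_inv]
      group
    obtain ⟨d, hd⟩ := exists_scalar (b := b) fun y => by
      obtain ⟨x, rfl⟩ := hsurj y
      exact ⟨_, hι (key x)⟩
    exact ⟨d, fun x => hθ _ _ (by rw [← key x, hd])⟩
  have h0 : f 0 = 0 := by
    have := hadd 0 0
    rw [add_zero] at this
    exact left_eq_add.1 this
  have hf1 : f 1 ≠ 0 := fun e => one_ne_zero (hinj (e.trans h0.symm))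
  have hmul : ∀ x y, f (x * y) * f 1 = f x * f y := by
    intro x y
    rcases eq_or_ne x 0 with rfl | hx
    · rw [zero_mul, h0, zero_mul, zero_mul]
    obtain ⟨d, hd⟩ := hscal x hx
    have h1 := hd 1
    rw [mul_one] at h1
    rw [hd y, h1]
    ring
  refine ⟨Units.mk0 (f 1) hf1, RingEquiv.ofBijective
    ({ toFun := fun x => f x / f 1
       map_one' := div_self hf1
       map_zero' := by rw [h0, zero_div]
       map_add' := fun x y => by rw [hadd, add_div]
       map_mul' := fun x y => by
        rw [div_mul_div_comm, ← hmul, mul_div_mul_right _ _ hf1] } : F →+* F) ?_, fun x => ?_⟩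
  · exact Finite.injective_iff_bijective.1 fun x y e => hinj ((div_left_inj' hf1).1 e)
  · rw [hf x]
    show _ = ι (bEl (1 : Fˣ) (f 1 * (f x / f 1)) : SL2)
    rw [mul_div_cancel₀ _ hf1]

include hι in
/-- The possible fields. -/
theorem exponent_of_conj {a : ℕ} (ha : Fintype.card F = 2 ^ a) (ha2 : 2 ≤ a) (hN : ι.range.Normal)
    (hS : ∀ x : G, x ^ 2 = 1 → ∀ y : G, y ^ 2 = 1 → x * y = y * x →
      x ∈ ι.range → x ≠ 1 → y ∈ ι.range)
    (hsq : ∀ x : G, x ^ 4 = 1 → x ^ 2 = 1)
    (hB : ∀ A B : Subgroup G, IsMulCommutative ↥A → IsMulCommutative ↥B →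
      Nat.card ↥A = Nat.card ↥B → ∃ g : G, B = A.map (MulAut.conj g).toMonoidHom) :
    a = 2 ∨ a = 3 ∨ a = 5 := by
  classical
  set θ : Multiplicative F →* G := ι.comp rootHom with hθdef
  have hθinj : Function.Injective θ := hι.comp rootHom_injective
  have hsq2 : ∀ k : ℕ, ∀ x : G, x ^ 2 ^ (k + 1) = 1 → x ^ 2 = 1 := by
    intro k
    induction k with
    | zero => intro x hx; simpa using hx
    | succ k ih =>
      intro x hx
      refine ih x ?_
      rw [pow_succ, pow_mul]
      refine hsq _ ?_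
      rw [← pow_mul, show 2 ^ k * 4 = 2 ^ (k + 1 + 1) by ring, hx]
  have helem : ∀ P : Subgroup G, IsPGroup 2 P → (∀ x ∈ P, x ^ 2 = 1) ∧ ∀ x ∈ P, ∀ y ∈ P, x * y = y * x := by
    intro P hP
    have h1 : ∀ x ∈ P, x ^ 2 = 1 := fun x hx => by
      obtain ⟨k, hk⟩ := hP ⟨x, hx⟩
      rcases k with _ | k
      · rw [pow_zero, pow_one] at hk
        rw [show x = 1 from congrArg Subtype.val hk, one_pow]
      · exact hsq2 k x (by simpa using congrArg Subtype.val hk)
    refine ⟨h1, fun x hx y hy => ?_⟩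
    have e : ∀ z ∈ P, z⁻¹ = z := fun z hz => inv_eq_of_mul_eq_one_right (by rw [← pow_two]; exact h1 z hz)
    calc x * y = (x * y)⁻¹ := (e _ (mul_mem hx hy)).symm
      _ = y * x := by rw [_root_.mul_inv_rev, e x hx, e y hy]
  have hR2 : IsPGroup 2 (θ.range) := fun x => ⟨1, by
    obtain ⟨_, z, rfl⟩ := x
    refine Subtype.ext ?_
    show θ z ^ 2 ^ 1 = 1
    rw [pow_one, ← map_pow, pow_two, show z * z = 1 from CharTwo.add_self_eq_zero (Multiplicative.toAdd z),
      map_one]⟩
  obtain ⟨P, hP⟩ := hR2.exists_le_sylow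
  obtain ⟨hPsq, hPc⟩ := helem P P.2
  have hPM : (P : Subgroup G) ≤ ι.range := fun y hy => by
    refine hS (θ (Multiplicative.ofAdd 1)) (hPsq _ (hP ⟨_, rfl⟩)) y (hPsq y hy)
      (hPc _ (hP ⟨_, rfl⟩) y hy) ⟨_, rfl⟩ fun e => ?_
    have := hθinj (e.trans θ.map_one.symm)
    exact one_ne_zero (α := F) (Multiplicative.ofAdd.injective (this.trans ofAdd_zero.symm))
  have hPeq : θ.range = (P : Subgroup G) := by
    refine le_antisymm hP fun y hy => ?_
    obtain ⟨b, hb⟩ := hPM hy
    -- `b` centralises the root group, hence lies in it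
    have hc : b * (bEl (1 : Fˣ) 1 : SL2) = (bEl (1 : Fˣ) 1 : SL2) * b := hι (by
      rw [map_mul, map_mul, hb]
      exact hPc y hy _ (hP ⟨Multiplicative.ofAdd 1, rfl⟩))
    have e := congrArg (fun g : SL2 => (g : M2)) hc
    simp only [Matrix.SpecialLinearGroup.coe_mul, bEl_coe] at e
    have e00 := congrFun (congrFun e 0) 0
    have e01 := congrFun (congrFun e 0) 1
    simp [Matrix.mul_apply, Fin.sum_univ_two] at e00 e01
    have hdiag : (b : M2) 0 0 = (b : M2) 1 1 := by linear_combination e01
    have hd := b.2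
    rw [Matrix.det_fin_two, e00, mul_zero, sub_zero, ← hdiag] at hd
    have h1 : (b : M2) 0 0 = 1 := by
      rcases mul_self_eq_one_iff.1 hd with h | h
      · exact h
      · rwa [CharTwo.neg_eq] at h
    refine ⟨Multiplicative.ofAdd ((b : M2) 0 1), ?_⟩
    show ι (bEl (1 : Fˣ) ((b : M2) 0 1) : SL2) = y
    rw [← hb]
    refine congrArg ι (Subtype.ext ?_)
    rw [bEl_coe]
    ext i j
    fin_cases i <;> fin_cases j <;> simp [e00, h1, ← hdiag]
  -- fusion of planes
  have hfus : ∀ u v x y : F, u ≠ 0 → v ≠ 0 → u ≠ v → x ≠ 0 → y ≠ 0 → x ≠ y →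
      ∃ (k : Fˣ) (σ : F ≃+* F), ∀ z, z ∈ plane x y ↔ ∃ w ∈ plane u v, z = (k : F) * σ w := by
    intro u v x y hu hv huv hx hy hxy
    set W := fun p q : F => (AddSubgroup.toSubgroup (plane p q)).map θ with hW
    have hWc : ∀ p q, IsMulCommutative ↥(W p q) := fun p q => ⟨⟨fun s t => Subtype.ext (by
      obtain ⟨_, s', -, rfl⟩ := s
      obtain ⟨_, t', -, rfl⟩ := t
      show θ s' * θ t' = θ t' * θ s'
      rw [← map_mul, mul_comm, map_mul])⟩⟩
    have hWcard : ∀ p q, p ≠ 0 → q ≠ 0 → p ≠ q → Nat.card (W p q) = 4 := fun p q hp hq hpq => by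
      rw [card_map_of_injective hθinj, ← card_plane hp hq hpq]
      exact Nat.card_congr
        { toFun := fun s => ⟨Multiplicative.toAdd (s : Multiplicative F), s.2⟩
          invFun := fun s => ⟨Multiplicative.ofAdd (s : F), s.2⟩
          left_inv := fun _ => rfl
          right_inv := fun _ => rfl }
    obtain ⟨g, hg⟩ := hB (W u v) (W x y) (hWc _ _) (hWc _ _)
      ((hWcard u v hu hv huv).trans (hWcard x y hx hy hxy).symm)
    -- move `g` into the normaliser
    set C := centralizer ((W x y : Subgroup G) : Set G) with hC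
    have hWP : ∀ p q, W p q ≤ (P : Subgroup G) := fun p q => hPeq ▸ map_le_range θ _
    have hC1 : (P : Subgroup G) ≤ C := fun s hs => mem_centralizer_iff.2 fun t ht =>
      hPc t (hWP x y ht) s hs
    have hC2 : ((g • P : Sylow 2 G) : Subgroup G) ≤ C := by
      rintro _ ⟨s, hs, rfl⟩
      refine mem_centralizer_iff.2 fun t ht => ?_
      rw [SetLike.mem_coe, hg] at ht
      obtain ⟨w, hw, rfl⟩ := ht
      show MulAut.conj g w * MulAut.conj g s = MulAut.conj g s * MulAut.conj g w
      rw [← map_mul, ← map_mul, hPc w (hWP u v hw) s hs]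
    obtain ⟨c, hc⟩ := MulAction.exists_smul_eq ↥C ((g • P).subtype hC2) (P.subtype hC1)
    have hcP : (c : G) • (g • P) = P := by
      refine Sylow.subtype_injective (N := C) (hP := Sylow.smul_le hC2 c) (hQ := hC1) ?_
      rw [← hc, Sylow.smul_subtype hC2]
      rfl
    have hn : ∀ z : F, ∃ y : F, ((c : G) * g) * ι (bEl (1 : Fˣ) z : SL2) * ((c : G) * g)⁻¹ =
        ι (bEl (1 : Fˣ) y : SL2) := by
      intro z
      have hz : θ (Multiplicative.ofAdd z) ∈ (P : Subgroup G) := hPeq ▸ ⟨_, rfl⟩
      have hm : ((c : G) * g) * θ (Multiplicative.ofAdd z) * ((c : G) * g)⁻¹ ∈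
          (((c : G) • (g • P) : Sylow 2 G) : Subgroup G) := by
        rw [← mul_smul, Sylow.coe_subgroup_smul]
        exact ⟨_, hz, rfl⟩
      rw [hcP, ← hPeq] at hm
      obtain ⟨w, hw⟩ := hm
      exact ⟨Multiplicative.toAdd w, hw.symm⟩
    obtain ⟨k, σ, hk⟩ := exists_semilinear ι hι hN hn
    refine ⟨k, σ, fun z => ⟨fun hz => ?_, ?_⟩⟩
    · have hzW : θ (Multiplicative.ofAdd z) ∈ W x y := ⟨_, hz, rfl⟩
      rw [hg] at hzW
      obtain ⟨_, ⟨w, hw, rfl⟩, e⟩ := hzW
      refine ⟨Multiplicative.toAdd w, hw, ?_⟩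
      have hfix : (c : G) * θ (Multiplicative.ofAdd z) = θ (Multiplicative.ofAdd z) * c :=
        (mem_centralizer_iff.1 c.2 _ (show θ (Multiplicative.ofAdd z) ∈ ((W x y : Subgroup G) : Set G) from
          ⟨_, hz, rfl⟩)).symm
      have h2 : ι (bEl (1 : Fˣ) z : SL2) = ι (bEl (1 : Fˣ) ((k : F) * σ (Multiplicative.toAdd w)) : SL2) := by
        rw [← hk]
        show θ (Multiplicative.ofAdd z) = _
        conv_lhs => rw [← mul_inv_cancel_right (θ (Multiplicative.ofAdd z)) (c : G), ← hfix, ← e]
        show (c : G) * (g * θ w * g⁻¹) * (c : G)⁻¹ =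
          ((c : G) * g) * θ w * ((c : G) * g)⁻¹
        group
      exact Multiplicative.ofAdd.injective (rootHom_injective (hι h2))
    · rintro ⟨w, hw, rfl⟩
      have hm : g * θ (Multiplicative.ofAdd w) * g⁻¹ ∈ W x y := by
        rw [hg]; exact ⟨_, ⟨_, hw, rfl⟩, rfl⟩
      have hfix := (mem_centralizer_iff.1 c.2 _ hm).symm
      obtain ⟨z, hz, e⟩ := hm
      have h2 : ι (bEl (1 : Fˣ) (Multiplicative.toAdd z) : SL2) = ι (bEl (1 : Fˣ) ((k : F) * σ w) : SL2) := by
        rw [← hk]
        show θ z = ((c : G) * g) * θ (Multiplicative.ofAdd w) * ((c : G) * g)⁻¹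
        rw [e, show ((c : G) * g) * θ (Multiplicative.ofAdd w) * ((c : G) * g)⁻¹ =
          (c : G) * (g * θ (Multiplicative.ofAdd w) * g⁻¹) * (c : G)⁻¹ by group, hfix, mul_inv_cancel_right]
      have e2 : Multiplicative.toAdd z = (k : F) * σ w :=
        (rootHom_injective.comp Multiplicative.ofAdd.injective) (hι h2)
      rw [← e2]
      exact hz
  by_cases hev : Even a
  · -- even degree: the subfield of order four
    left
    by_contra hne
    obtain ⟨r, rfl⟩ := hev
    have h3 : 3 ∣ Nat.card Fˣ := by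
      rw [Nat.card_units, Nat.card_eq_fintype_card, ha, show r + r = 2 * r by ring, pow_mul]
      simpa using Nat.sub_dvd_pow_sub_pow 4 1 r
    obtain ⟨ω, hω⟩ := exists_prime_orderOf_dvd_card' 3 h3
    have hω3 : ((ω : F)) ^ 3 = 1 := by
      rw [← Units.val_pow_eq_pow_val, ← hω, pow_orderOf_eq_one, Units.val_one]
    have hω1 : (ω : F) ≠ 1 := fun e => by
      rw [Units.val_eq_one] at e
      rw [e, orderOf_one] at hω
      norm_num at hω
    have hωq : (ω : F) ^ 2 = 1 + ω := by
      have h : ((ω : F) - 1) * ((ω : F) ^ 2 + ω + 1) = 0 := by linear_combination hω3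
      have h' := (mul_eq_zero.1 h).resolve_left (sub_ne_zero.2 hω1)
      linear_combination h' - (1 + (ω : F)) * CharTwo.two_eq_zero (R := F)
    obtain ⟨γ, hγ⟩ : ∃ γ : F, γ ∉ plane (1 : F) ω := by
      by_contra hall
      push Not at hall
      have h4 : Nat.card (plane (1 : F) ω) = Fintype.card F := by
        rw [← Nat.card_eq_fintype_card]
        exact Nat.card_congr (Equiv.subtypeUnivEquiv hall)
      rw [card_plane one_ne_zero ω.ne_zero (Ne.symm hω1), ha] at h4
      have := Nat.pow_le_pow_right two_pos (show 3 ≤ r + r by omega)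
      omega
    have hγ0 : γ ≠ 0 := fun e => hγ (Or.inl e)
    have hγ1 : (1 : F) ≠ γ := fun e => hγ (Or.inr (Or.inl e.symm))
    obtain ⟨k, σ, hkσ⟩ := hfus 1 ω 1 γ one_ne_zero ω.ne_zero (Ne.symm hω1) one_ne_zero hγ0 hγ1
    have hmulc : ∀ p q, p ∈ plane (1 : F) ω → q ∈ plane (1 : F) ω → p * q ∈ plane (1 : F) ω := by
      intro p q hp hq
      rw [mem_plane] at hp hq ⊢
      rcases hp with rfl | rfl | rfl | rfl <;> rcases hq with rfl | rfl | rfl | rfl
      all_goals first
        | (left; ring1)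
        | (right; left; ring1)
        | (right; right; left; ring1)
        | (right; right; right; ring1)
        | (right; left; linear_combination hωq + CharTwo.two_eq_zero (R := F) * (ω : F))
        | (right; right; left; linear_combination hωq + CharTwo.two_eq_zero (R := F) * (1 + (ω : F)))
        | (right; right; right; linear_combination hωq)
        | (right; left; linear_combination hωq)
        | (right; right; left; linear_combination hωq)
    have hσ : ∀ w, w ∈ plane (1 : F) ω → σ w ∈ plane (1 : F) ω := by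
      have hσω : σ (ω : F) ∈ plane (1 : F) ω := by
        set w := σ (ω : F) with hw
        have hwq : w ^ 2 = 1 + w := by rw [hw, ← map_pow, hωq, map_add, map_one]
        have hfac : (w - (ω : F)) * (w - (1 + (ω : F))) = 0 := by
          linear_combination hwq + hωq + CharTwo.two_eq_zero (R := F) * (1 + (ω : F) - w * (ω : F))
        rcases mul_eq_zero.1 hfac with e | e <;> rw [sub_eq_zero] at e
        · exact Or.inr (Or.inr (Or.inl e))
        · exact Or.inr (Or.inr (Or.inr e))
      intro w hw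
      rcases mem_plane.1 hw with rfl | rfl | rfl | rfl
      · rw [map_zero]; exact Or.inl rfl
      · rw [map_one]; exact Or.inr (Or.inl rfl)
      · exact hσω
      · rw [map_add, map_one]
        exact (plane (1 : F) ω).add_mem (Or.inr (Or.inl rfl)) hσω
    obtain ⟨w, hw, h1⟩ := (hkσ 1).1 (Or.inr (Or.inl rfl))
    obtain ⟨w', hw', hg'⟩ := (hkσ γ).1 (Or.inr (Or.inr (Or.inl rfl)))
    refine hγ ?_
    have hw0 : σ w ≠ 0 := fun e => one_ne_zero (h1.trans (by rw [e, mul_zero]))
    have hk : (k : F) ∈ plane (1 : F) ω := by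
      have hk' : (k : F) = (σ w)⁻¹ := eq_inv_of_mul_eq_one_left h1.symm
      rw [hk']
      have hcube : (σ w) ^ 3 = 1 := by
        rcases mem_plane.1 (hσ w hw) with e | e | e | e
        · exact absurd e hw0
        · rw [e, one_pow]
        · rw [e, hω3]
        · rw [e, ← hωq, ← pow_mul, show 2 * 3 = 3 * 2 from rfl, pow_mul, hω3, one_pow]
      rw [show (σ w)⁻¹ = σ w * σ w from inv_eq_of_mul_eq_one_right (by rw [← hcube]; ring)]
      exact hmulc _ _ (hσ w hw) (hσ w hw)
    rw [hg']
    exact hmulc _ _ hk (hσ w' hw')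
  · -- odd degree: counting ordered pairs
    have hcount : (Fintype.card F - 1) * (Fintype.card F - 2) ≤ (Fintype.card F - 1) * (a * 6) := by
      obtain ⟨v0, hv0⟩ : ∃ v : F, v ≠ 0 ∧ v ≠ 1 := by
        by_contra hall
        push Not at hall
        have h : (Finset.univ : Finset F) ⊆ {0, 1} := fun v _ => by
          rcases eq_or_ne v 0 with e | e
          · simp [e]
          · simp [hall v e]
        have h2 := (Finset.card_le_card h).trans Finset.card_le_two
        rw [Finset.card_univ, ha] at h2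
        have := Nat.pow_le_pow_right two_pos ha2
        omega
      haveI : Finite (F ≃+* F) := Finite.of_injective (fun (σ : F ≃+* F) => (σ : F → F)) DFunLike.coe_injective
      letI : Fintype (F ≃+* F) := Fintype.ofFinite _
      let six : Fin 6 → F × F := ![(1, v0), (v0, 1), (1, 1 + v0), (1 + v0, 1), (v0, 1 + v0), (1 + v0, v0)]
      set T := (Finset.univ.filter fun p : F × F => p.1 ≠ 0 ∧ p.2 ≠ 0 ∧ p.1 ≠ p.2) with hT
      have hsub : T ⊆ (Finset.univ : Finset (Fˣ × (F ≃+* F) × Fin 6)).image
          (fun t => ((t.1 : F) * t.2.1 (six t.2.2).1, (t.1 : F) * t.2.1 (six t.2.2).2)) := by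
        rintro ⟨x, y⟩ hp
        obtain ⟨hx, hy, hxy⟩ := (Finset.mem_filter.1 hp).2
        obtain ⟨k, σ, hkσ⟩ := hfus 1 v0 x y one_ne_zero hv0.1 (Ne.symm hv0.2) hx hy hxy
        obtain ⟨w, hw, rfl⟩ := (hkσ x).1 (Or.inr (Or.inl rfl))
        obtain ⟨w', hw', rfl⟩ := (hkσ y).1 (Or.inr (Or.inr (Or.inl rfl)))
        have hne : w ≠ w' := fun e => hxy (by rw [e])
        have hw0 : w ≠ 0 := fun e => hx (by rw [e, map_zero, mul_zero])
        have hw0' : w' ≠ 0 := fun e => hy (by rw [e, map_zero, mul_zero])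
        refine Finset.mem_image.2 ?_
        rcases mem_plane.1 hw with e | e | e | e <;> rcases mem_plane.1 hw' with e' | e' | e' | e' <;>
          first
            | exact absurd e hw0
            | exact absurd e' hw0'
            | exact absurd (e.trans e'.symm) hne
            | (refine ⟨(k, σ, 0), Finset.mem_univ _, ?_⟩; simp [six, e, e']; done)
            | (refine ⟨(k, σ, 1), Finset.mem_univ _, ?_⟩; simp [six, e, e']; done)
            | (refine ⟨(k, σ, 2), Finset.mem_univ _, ?_⟩; simp [six, e, e']; done)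
            | (refine ⟨(k, σ, 3), Finset.mem_univ _, ?_⟩; simp [six, e, e']; done)
            | (refine ⟨(k, σ, 4), Finset.mem_univ _, ?_⟩; simp [six, e, e']; done)
            | (refine ⟨(k, σ, 5), Finset.mem_univ _, ?_⟩; simp [six, e, e']; done)
      have hTcard : (Fintype.card F - 1) * (Fintype.card F - 2) ≤ T.card := by
        refine le_trans (le_of_eq ?_) (Finset.card_le_card (show
          (Finset.univ.erase (0 : F)).offDiag ⊆ T from fun p hp => by
            simp only [Finset.mem_offDiag, Finset.mem_erase, Finset.mem_univ, and_true] at hp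
            exact Finset.mem_filter.2 ⟨Finset.mem_univ _, hp.1, hp.2.1, hp.2.2⟩))
        rw [Finset.offDiag_card, Finset.card_erase_of_mem (Finset.mem_univ _), Finset.card_univ,
          show Fintype.card F - 2 = Fintype.card F - 1 - 1 by omega, Nat.mul_sub, mul_one]
      refine hTcard.trans ((Finset.card_le_card hsub).trans (Finset.card_image_le.trans ?_))
      rw [Finset.card_univ, Fintype.card_prod, Fintype.card_prod, Fintype.card_units, Fintype.card_fin,
        ← Nat.card_eq_fintype_card (α := F ≃+* F)]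
      exact Nat.mul_le_mul_left _ (Nat.mul_le_mul_right _ (card_ringEquiv_le ha))
    have h1 : 0 < Fintype.card F - 1 := by have := Fintype.one_lt_card (α := F); omega
    have h2 := Nat.le_of_mul_le_mul_left hcount h1
    rw [ha] at h2
    have h5 : a ≤ 5 := by
      by_contra hlt
      have key : ∀ n : ℕ, 6 ≤ n → (n * 6) + 2 < 2 ^ n := by
        intro n hn
        induction n, hn using Nat.le_induction with
        | base => norm_num
        | succ n hn ih => rw [pow_succ]; omega
      have := key a (by omega)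
      omega
    rcases Nat.not_even_iff_odd.1 hev with ⟨r, rfl⟩
    omega

end CfsgLib.EqualOrderConj
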