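import Cfsg.Agent.Lib.EqualOrderConj.PslThree
import Cfsg.Agent.Lib.OrderCount.Basic

/-!
A group of the order of a Ree group, with abelian Sylow 2-subgroups and the expected involution
centraliser, whose elements of order three are all alike under automorphisms and whose 3-subgroups have
exponent three, does not exist: Frobenius' theorem on the solutions of `x ^ (q ^ 3) = 1` fails.
-/

set_option autoImplicit false
set_option linter.unusedSectionVars false

namespace CfsgLib.EqualOrderConj

open Subgroup CfsgLib.ReeType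

universe u

variable {M : Type u} [Group M] [Finite M] {F : Type} [Field F] [Fintype F] [DecidableEq F]

local instance factThreeRee : Fact (Nat.Prime 3) := ⟨Nat.prime_three⟩
local instance factTwoRee : Fact (Nat.Prime 2) := ⟨Nat.prime_two⟩

/-- An orbit under conjugation by a subgroup. -/
theorem card_conj_mul (C : Subgroup M) (s : M) :
    Nat.card {x : M // ∃ g ∈ C, g * s * g⁻¹ = x} * Nat.card ↥(C ⊓ centralizer ({s} : Set M)) =
      Nat.card C := by
  classical
  letI : MulAction ↥C M := MulAction.compHom M (MulAut.conj.comp C.subtype)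
  have hsmul : ∀ (g : ↥C) (x : M), g • x = (g : M) * x * (g : M)⁻¹ := fun _ _ => rfl
  letI : Fintype ↥C := Fintype.ofFinite _
  letI : Fintype (MulAction.orbit ↥C s) := Fintype.ofFinite _
  letI : Fintype (MulAction.stabilizer ↥C s) := Fintype.ofFinite _
  have h1 : Nat.card {x : M // ∃ g ∈ C, g * s * g⁻¹ = x} = Nat.card (MulAction.orbit ↥C s) := by
    refine Nat.card_congr (Equiv.subtypeEquivRight fun x => ?_)
    show _ ↔ x ∈ MulAction.orbit ↥C s
    rw [MulAction.mem_orbit_iff]
    exact ⟨fun ⟨g, hg, e⟩ => ⟨⟨g, hg⟩, (hsmul _ _).trans e⟩,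
      fun ⟨g, e⟩ => ⟨g, g.2, (hsmul _ _).symm.trans e⟩⟩
  have h2 : Nat.card ↥(C ⊓ centralizer ({s} : Set M)) = Nat.card (MulAction.stabilizer ↥C s) := by
    refine Nat.card_congr
      { toFun := fun x => ⟨⟨x, x.2.1⟩, MulAction.mem_stabilizer_iff.2 (by
          rw [hsmul]
          exact mul_inv_eq_iff_eq_mul.2 (mem_centralizer_singleton_iff.1 x.2.2))⟩
        invFun := fun x => ⟨(x : ↥C), (x : ↥C).2, mem_centralizer_singleton_iff.2
          (mul_inv_eq_iff_eq_mul.1 ((hsmul _ _).symm.trans (MulAction.mem_stabilizer_iff.1 x.2)))⟩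
        left_inv := fun _ => rfl
        right_inv := fun _ => rfl }
  rw [h1, h2, Nat.card_eq_fintype_card, Nat.card_eq_fintype_card, Nat.card_eq_fintype_card]
  exact MulAction.card_orbit_mul_card_stabilizer_eq_card_group ↥C s

/-- Transport of a centraliser structure by an automorphism. -/
theorem centData_map {t : M} (E : CentData t F) (φ : M ≃* M) : Nonempty (CentData (φ t) F) := by
  let ψ : centralizer ({φ t} : Set M) ≃* centralizer ({t} : Set M) :=
    { toFun := fun x => ⟨φ.symm x, mem_centralizer_singleton_iff.2 (φ.injective (by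
        rw [map_mul, map_mul, φ.apply_symm_apply]; exact mem_centralizer_singleton_iff.1 x.2))⟩
      invFun := fun x => ⟨φ x, mem_centralizer_singleton_iff.2 (by
        rw [← map_mul, ← map_mul, mem_centralizer_singleton_iff.1 x.2])⟩
      left_inv := fun x => Subtype.ext (φ.apply_symm_apply _)
      right_inv := fun x => Subtype.ext (φ.symm_apply_apply _)
      map_mul' := fun x y => Subtype.ext (map_mul φ.symm _ _) }
  refine ⟨⟨ψ.trans E.e, ?_⟩⟩
  rw [MulEquiv.trans_apply, show ψ ⟨φ t, mem_centralizer_singleton_iff.2 rfl⟩ =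
    ⟨t, mem_centralizer_singleton_iff.2 rfl⟩ from Subtype.ext (φ.symm_apply_apply t), E.he]

theorem fst_eq_one {s : M} (E : CentData s F) {x : M} (hx : Commute x s) (h3 : x ^ 3 = 1) :
    (E.e ⟨x, mem_centralizer_singleton_iff.2 hx.eq⟩).1 = 1 := by
  set p := E.e ⟨x, mem_centralizer_singleton_iff.2 hx.eq⟩ with hp
  have h1 : p ^ 3 = 1 := by
    rw [hp, ← map_pow, show (⟨x, mem_centralizer_singleton_iff.2 hx.eq⟩ :
      centralizer ({s} : Set M)) ^ 3 = 1 from Subtype.ext (by simpa using h3), map_one]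
  have key : ∀ z : Multiplicative (ZMod 2), z ^ 3 = 1 → z = 1 := by decide
  exact key _ (congrArg Prod.fst h1)

theorem eq_up {s : M} (E : CentData s F) {x : M} (hx : Commute x s) (h3 : x ^ 3 = 1) :
    x = E.up (E.kappa ⟨x, mem_centralizer_singleton_iff.2 hx.eq⟩) := by
  show x = ((E.e.symm (1, (E.e ⟨x, mem_centralizer_singleton_iff.2 hx.eq⟩).2)) : M)
  rw [← fst_eq_one E hx h3, Prod.mk.eta, E.e.symm_apply_apply]


theorem orderOf_kappa {s : M} (E : CentData s F) {x : M} (hx : Commute x s) (h3 : orderOf x = 3) :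
    orderOf (E.kappa ⟨x, mem_centralizer_singleton_iff.2 hx.eq⟩) = 3 := by
  rw [← orderOf_injective E.up E.up_injective, ← eq_up E hx (h3 ▸ pow_orderOf_eq_one x), h3]

variable [CharP F 3]

theorem card_three_commute {s : M} (E : CentData s F) :
    Nat.card {x : M // orderOf x = 3 ∧ Commute x s} = Fintype.card F ^ 2 - 1 := by
  rw [← card_orderOf_three (F := F)]
  refine Nat.card_congr
    { toFun := fun x => ⟨E.kappa ⟨x, mem_centralizer_singleton_iff.2 x.2.2.eq⟩,
        orderOf_kappa E x.2.2 x.2.1⟩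
      invFun := fun y => ⟨E.up y, by rw [orderOf_injective E.up E.up_injective]; exact y.2,
        E.up_commute y⟩
      left_inv := fun x => Subtype.ext (eq_up E x.2.2 (by
        have := pow_orderOf_eq_one (x : M); rwa [x.2.1] at this)).symm
      right_inv := fun y => Subtype.ext (E.kappa_up y) }

theorem card_cent_inf_aux (y : Matrix.ProjectiveSpecialLinearGroup (Fin 2) F) (hy : orderOf y = 3) :
    Nat.card (Multiplicative (ZMod 2) × ↥(centralizer ({y} : Set (Matrix.ProjectiveSpecialLinearGroup (Fin 2) F)))) =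
      2 * Fintype.card F := by
  rw [Nat.card_prod, (centralizer_three hy).1, Nat.card_eq_fintype_card (α := Multiplicative (ZMod 2))]
  rfl

theorem card_cent_inf {s : M} (E : CentData s F) {x : M} (hx : Commute x s) (h3 : orderOf x = 3) :
    Nat.card ↥(centralizer ({x} : Set M) ⊓ centralizer ({s} : Set M)) = 2 * Fintype.card F := by
  set y := E.kappa ⟨x, mem_centralizer_singleton_iff.2 hx.eq⟩ with hy
  have hy3 : orderOf y = 3 := orderOf_kappa E hx h3
  have hf := fst_eq_one E hx (h3 ▸ pow_orderOf_eq_one x)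
  have hiff : ∀ g : centralizer ({s} : Set M), Commute (g : M) x ↔ Commute (E.kappa g) y := by
    intro g
    constructor
    · intro h
      exact (show Commute g ⟨x, mem_centralizer_singleton_iff.2 hx.eq⟩ from Subtype.ext h.eq).map E.kappa
    · exact fun h => E.commute_of_kappa h
  rw [← card_cent_inf_aux y hy3]
  refine Nat.card_congr
    { toFun := fun g => ((E.e ⟨g, g.2.2⟩).1, ⟨E.kappa ⟨g, g.2.2⟩, mem_centralizer_singleton_iff.2
        ((hiff ⟨g, g.2.2⟩).1 (mem_centralizer_singleton_iff.1 g.2.1)).eq⟩)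
      invFun := fun p => ⟨(E.e.symm (p.1, (p.2 : Matrix.ProjectiveSpecialLinearGroup (Fin 2) F)) :
          centralizer ({s} : Set M)), mem_centralizer_singleton_iff.2 ((hiff _).2 (by
            rw [show E.kappa (E.e.symm (p.1, (p.2 : Matrix.ProjectiveSpecialLinearGroup (Fin 2) F))) = p.2
              from congrArg Prod.snd (E.e.apply_symm_apply _)]
            exact mem_centralizer_singleton_iff.1 p.2.2)).eq,
          (E.e.symm (p.1, (p.2 : Matrix.ProjectiveSpecialLinearGroup (Fin 2) F))).2⟩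
      left_inv := fun g => Subtype.ext (by
        show ((E.e.symm (E.e ⟨g, g.2.2⟩) : centralizer ({s} : Set M)) : M) = (g : M)
        rw [E.e.symm_apply_apply])
      right_inv := fun p => by
        refine Prod.ext ?_ (Subtype.ext ?_)
        · show (E.e _).1 = p.1
          rw [Subtype.coe_eta, E.e.apply_symm_apply]
        · show (E.e _).2 = _
          rw [Subtype.coe_eta, E.e.apply_symm_apply] }

/-- In the centraliser of an element of order three the involutions are conjugate. -/
theorem involutions_conj (hab : ∀ P : Sylow 2 M, IsMulCommutative ↥(P : Subgroup M))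
    (ho : Odd (Fintype.card F)) {s : M} (E : CentData s F) {y : M} (hy : Commute y s)
    (h3 : orderOf y = 3) {v : M} (hv : orderOf v = 2) (hvy : Commute v y) :
    ∃ g ∈ centralizer ({y} : Set M), g * s * g⁻¹ = v := by
  classical
  set C := centralizer ({y} : Set M) with hC
  have h2 : ∀ w : M, orderOf w = 2 → ∀ hw : w ∈ C, ∃ Q : Sylow 2 ↥C, (⟨w, hw⟩ : ↥C) ∈ Q := by
    intro w hwo hw
    obtain ⟨Q, hQ⟩ := (IsPGroup.of_card (n := 1) (p := 2)
      (show Nat.card (zpowers (⟨w, hw⟩ : ↥C)) = 2 ^ 1 by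
        rw [Nat.card_zpowers, Subgroup.orderOf_mk, hwo, pow_one])).exists_le_sylow
    exact ⟨Q, hQ (mem_zpowers _)⟩
  have hsC : s ∈ C := mem_centralizer_singleton_iff.2 hy.symm.eq
  have hvC : v ∈ C := mem_centralizer_singleton_iff.2 hvy.eq
  obtain ⟨Q, hQ⟩ := h2 s E.orderOf_s hsC
  obtain ⟨R, hR⟩ := h2 v hv hvC
  obtain ⟨g, hg⟩ := MulAction.exists_smul_eq ↥C Q R
  rw [← hg] at hR
  obtain ⟨w, hw, hwv⟩ : (⟨v, hvC⟩ : ↥C) ∈ ((Q : Subgroup ↥C).map (MulAut.conj g).toMonoidHom) := hR
  -- the Sylow subgroup has order two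
  have hle : (Q : Subgroup ↥C).map C.subtype ≤ C ⊓ centralizer ({s} : Set M) := by
    rintro _ ⟨a, ha, rfl⟩
    refine ⟨a.2, mem_centralizer_singleton_iff.2 ?_⟩
    obtain ⟨P, hP⟩ := (Q.2.map C.subtype).exists_le_sylow
    exact congrArg Subtype.val ((hab P).is_comm.comm ⟨_, hP (mem_map_of_mem _ ha)⟩
      ⟨s, hP ⟨⟨s, hsC⟩, hQ, rfl⟩⟩)
  have hd := Subgroup.card_dvd_of_le hle
  rw [card_cent_inf E hy h3, card_map_of_injective C.subtype_injective] at hd
  obtain ⟨k, hk⟩ := IsPGroup.iff_card.1 Q.2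
  have hk1 : Nat.card (Q : Subgroup ↥C) ≤ 2 := by
    rw [hk] at hd ⊢
    have hcop : Nat.Coprime (2 ^ k) (Fintype.card F) := Nat.Coprime.pow_left k (Nat.coprime_two_left.2 ho)
    exact Nat.le_of_dvd two_pos (hcop.dvd_of_dvd_mul_right hd)
  have hws : w = ⟨s, hsC⟩ := by
    by_contra hne
    have hw1 : w ≠ 1 := by
      rintro rfl
      have := congrArg Subtype.val hwv
      simp at this
      rw [← this, orderOf_one] at hv
      norm_num at hv
    have hs1 : (⟨s, hsC⟩ : ↥C) ≠ 1 := fun e => by
      have := congrArg Subtype.val e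
      have ho := E.orderOf_s
      rw [show s = 1 from this, orderOf_one] at ho
      norm_num at ho
    letI : Fintype (Q : Subgroup ↥C) := Fintype.ofFinite _
    have h3 : ({⟨1, one_mem _⟩, ⟨w, hw⟩, ⟨⟨s, hsC⟩, hQ⟩} : Finset (Q : Subgroup ↥C)).card ≤ 2 :=
      (Finset.card_le_univ _).trans (Nat.card_eq_fintype_card (α := (Q : Subgroup ↥C)) ▸ hk1)
    rw [Finset.card_eq_three.2 ⟨_, _, _, fun e => hw1 (congrArg Subtype.val e).symm,
      fun e => hs1 (congrArg Subtype.val e).symm, fun e => hne (congrArg Subtype.val e), rfl⟩] at h3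
    omega
  subst hws
  exact ⟨g, g.2, congrArg Subtype.val hwv⟩

theorem arith {q a L c : ℕ} (hq : 27 ≤ q) (hL : L ≤ 7) (ha : q ^ 3 ∣ a + 1) (ha0 : 0 < a)
    (h : a * c = 2 * L * ((q ^ 3 + 1) * (q - 1))) (hc : 0 < c) : False := by
  have h1 : q ^ 3 ≤ a + 1 := Nat.le_of_dvd (by omega) ha
  obtain ⟨r, rfl⟩ : ∃ r, q = r + 27 := ⟨q - 27, by omega⟩
  set q := r + 27 with hqdef
  obtain ⟨p, hp⟩ : ∃ p, q = p + 1 := ⟨q - 1, by omega⟩
  rw [show q - 1 = p by omega] at h
  have h2 : c * a ≤ 14 * ((q ^ 3 + 1) * p) := by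
    rw [mul_comm, h]
    exact Nat.mul_le_mul_right _ (by omega)
  have h3 : c ≤ 14 * q := by
    by_contra hlt
    rw [not_le] at hlt
    have h4 : (14 * q + 1) * a ≤ 14 * ((q ^ 3 + 1) * p) := le_trans (Nat.mul_le_mul_right a hlt) h2
    have h4' := Nat.mul_le_mul_left (14 * q + 1) h1
    have h8 : 27 * 27 * q ≤ q ^ 3 := by
      rw [pow_succ, pow_two]
      exact Nat.mul_le_mul_right q (Nat.mul_le_mul hq hq)
    rw [hp] at h4 h4' h8
    nlinarith [h4, h4', h8]
  obtain ⟨w, hw⟩ := ha
  have hz : q ^ 3 ∣ c + 2 * L * p := by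
    refine (Nat.dvd_add_right (Dvd.intro (2 * L * p) rfl)).1
      (show q ^ 3 ∣ q ^ 3 * (2 * L * p) + (c + 2 * L * p) from ⟨w * c, ?_⟩)
    calc q ^ 3 * (2 * L * p) + (c + 2 * L * p) = (a + 1) * c := by rw [add_mul, one_mul, h]; ring
      _ = q ^ 3 * (w * c) := by rw [hw]; ring
  have h5 := Nat.le_of_dvd (by omega) hz
  have h6 : 2 * L * p ≤ 14 * q := Nat.mul_le_mul (by omega) (by omega)
  have h7 : 729 * q ≤ q ^ 3 := by
    rw [pow_succ, pow_two]
    exact Nat.mul_le_mul_right q ((by norm_num : 729 = 27 * 27).le.trans (Nat.mul_le_mul hq hq))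
  omega

set_option maxHeartbeats 1000000 in
theorem false_of_aut (hab : ∀ P : Sylow 2 M, IsMulCommutative ↥(P : Subgroup M)) {m : ℕ} (hm : 1 ≤ m)
    (hF : Fintype.card F = 3 ^ (2 * m + 1))
    (hcard : Nat.card M = Fintype.card F ^ 3 * ((Fintype.card F ^ 3 + 1) * (Fintype.card F - 1)))
    {t : M} (E : CentData t F)
    (haut : ∀ y z : M, orderOf y = 3 → orderOf z = 3 → ∃ φ : M ≃* M, φ y = z ∨ φ y = z⁻¹)
    (h9 : ∀ y : M, y ^ 9 = 1 → y ^ 3 = 1) : False := by
  classical
  letI : Fintype M := Fintype.ofFinite M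
  set q := Fintype.card F with hq
  have hq27 : 27 ≤ q := by
    rw [hF]
    exact le_trans (by norm_num) (Nat.pow_le_pow_right (by norm_num) (show 3 ≤ 2 * m + 1 by omega))
  have hodd : Odd q := by rw [hF]; exact (by decide : Odd 3).pow
  have h20 : (2 : F) ≠ 0 := CfsgLib.ReeType.two_ne_zero_of_three
  set A := Finset.univ.filter (fun x : M => orderOf x = 3) with hA
  set T := Finset.univ.filter (fun s : M => ∃ φ : M ≃* M, φ t = s) with hT
  have hTd : ∀ s ∈ T, Nonempty (CentData s F) := fun s hs => by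
    obtain ⟨φ, rfl⟩ := (Finset.mem_filter.1 hs).2
    exact centData_map E φ
  have hTinv : ∀ s ∈ T, orderOf s = 2 := fun s hs => by
    obtain ⟨E'⟩ := hTd s hs
    exact E'.orderOf_s
  have hTconj : ∀ g u : M, u ∈ T → g * u * g⁻¹ ∈ T := fun g u hu => by
    obtain ⟨φ, rfl⟩ := (Finset.mem_filter.1 hu).2
    exact Finset.mem_filter.2 ⟨Finset.mem_univ _, φ.trans (MulAut.conj g), rfl⟩
  have htT : t ∈ T := Finset.mem_filter.2 ⟨Finset.mem_univ _, MulEquiv.refl M, rfl⟩
  -- a central element of order three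
  obtain ⟨P⟩ : Nonempty (Sylow 3 M) := inferInstance
  have hP : q ^ 3 ∣ Nat.card (P : Subgroup M) := by
    rw [P.card_eq_multiplicity, hF, ← pow_mul]
    refine pow_dvd_pow 3 ?_
    refine (Nat.prime_three.pow_dvd_iff_le_factorization Nat.card_pos.ne').1 ?_
    rw [pow_mul, ← hF, hcard]
    exact dvd_mul_right _ _
  have hPnt : Nontrivial (P : Subgroup M) := by
    rw [← Finite.one_lt_card_iff_nontrivial]
    exact lt_of_lt_of_le (Nat.one_lt_pow (by norm_num) (by omega)) (Nat.le_of_dvd Nat.card_pos hP)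
  haveI := P.2.center_nontrivial
  obtain ⟨z, hz⟩ := exists_prime_orderOf_dvd_card' (G := center (P : Subgroup M)) 3 (by
    obtain ⟨j, hj⟩ := IsPGroup.iff_card.1 (P.2.to_subgroup (center (P : Subgroup M)))
    rcases j with _ | j
    · rw [pow_zero] at hj; exact absurd hj (ne_of_gt Finite.one_lt_card)
    · exact hj ▸ dvd_pow_self 3 (Nat.succ_ne_zero j))
  have hz3 : orderOf (((z : (P : Subgroup M)) : M)) = 3 := by rw [orderOf_coe, orderOf_coe, hz]
  set z' : M := ((z : (P : Subgroup M)) : M) with hz'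
  set c := Nat.card (centralizer ({z'} : Set M)) with hc
  have hq3c : q ^ 3 ∣ c := hP.trans (card_dvd_of_le fun x hx => mem_centralizer_singleton_iff.2
    (congrArg Subtype.val (mem_center_iff.1 z.2 ⟨x, hx⟩)))
  have hcy : ∀ y : M, orderOf y = 3 → Nat.card (centralizer ({y} : Set M)) = c := by
    intro y hy
    obtain ⟨φ, hφ⟩ := haut z' y hz3 hy
    have hto : ∀ x : centralizer ({z'} : Set M), φ (x : M) * y = y * φ (x : M) := fun x => by
      have h := mem_centralizer_singleton_iff.1 x.2
      have h' : φ x * φ z' = φ z' * φ x := by rw [← map_mul, h, map_mul]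
      rcases hφ with e | e <;> rw [e] at h'
      · exact h'
      · exact (Commute.inv_right_iff.1 (show Commute (φ x) y⁻¹ from h')).eq
    have hfrom : ∀ x : centralizer ({y} : Set M), φ.symm (x : M) * z' = z' * φ.symm (x : M) := fun x => by
      refine φ.injective ?_
      have h : Commute (x : M) y := mem_centralizer_singleton_iff.1 x.2
      rw [map_mul, map_mul, φ.apply_symm_apply]
      rcases hφ with e | e <;> rw [e]
      · exact h.eq
      · exact h.inv_right.eq
    exact (Nat.card_congr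
      { toFun := fun x => ⟨φ x, mem_centralizer_singleton_iff.2 (hto x)⟩
        invFun := fun x => ⟨φ.symm x, mem_centralizer_singleton_iff.2 (hfrom x)⟩
        left_inv := fun x => Subtype.ext (φ.symm_apply_apply (x : M))
        right_inv := fun x => Subtype.ext (φ.apply_symm_apply (x : M)) }).symm
  -- every element of order three commutes with a member of `T`
  obtain ⟨⟨y₀, hy₀⟩⟩ : Nonempty {x : M // orderOf x = 3 ∧ Commute x t} := by
    refine (Nat.card_pos_iff.1 ?_).1
    rw [card_three_commute E]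
    exact Nat.sub_pos_of_lt (Nat.one_lt_pow (by norm_num) (by omega))
  have hcount : ∀ y ∈ A, (T.filter fun s => Commute y s).card * (2 * q) = c := by
    intro y hy
    have hy3 : orderOf y = 3 := (Finset.mem_filter.1 hy).2
    obtain ⟨φ, hφ⟩ := haut y₀ y hy₀.1 hy3
    obtain ⟨E'⟩ := centData_map E φ
    have hys : Commute y (φ t) := by
      have h := hy₀.2.map φ.toMonoidHom
      simp only [MulEquiv.coe_toMonoidHom] at h
      rcases hφ with e | e <;> rw [e] at h
      · exact h
      · exact Commute.inv_left_iff.1 h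
    rw [← hcy y hy3, ← card_conj_mul (centralizer ({y} : Set M)) (φ t), card_cent_inf E' hys hy3]
    congr 1
    rw [Nat.card_eq_fintype_card, Fintype.card_subtype]
    refine congrArg Finset.card (Finset.ext fun v => ?_)
    simp only [Finset.mem_filter, Finset.mem_univ, true_and]
    constructor
    · rintro ⟨hv, hvy⟩
      exact involutions_conj hab hodd E' hys hy3 (hTinv v hv) hvy.symm
    · rintro ⟨g, hg, rfl⟩
      refine ⟨hTconj g _ (Finset.mem_filter.2 ⟨Finset.mem_univ _, φ, rfl⟩), ?_⟩
      have hgy : Commute g y := mem_centralizer_singleton_iff.1 hg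
      exact ((hgy.symm.mul_right hys).mul_right hgy.inv_left.symm)
  have hswap : ∑ y ∈ A, (T.filter fun s => Commute y s).card = T.card * (q ^ 2 - 1) := by
    have hsw : ∑ y ∈ A, (T.filter fun s => Commute y s).card =
        ∑ s ∈ T, (A.filter fun y => Commute y s).card :=
      Finset.sum_card_bipartiteAbove_eq_sum_card_bipartiteBelow _
    rw [hsw, Finset.sum_congr rfl fun s hs => ?_, Finset.sum_const, smul_eq_mul]
    obtain ⟨E'⟩ := hTd s hs
    rw [← card_three_commute E', Nat.card_eq_fintype_card, Fintype.card_subtype, hA, Finset.filter_filter]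
  -- the number of classes in `T`
  set cT := Nat.card (centralizer ({t} : Set M)) with hcT
  have hcs : ∀ s ∈ T, Nat.card (centralizer ({s} : Set M)) = cT := fun s hs => by
    obtain ⟨E'⟩ := hTd s hs
    rw [hcT, CentData.card_cent_eq E' h20, CentData.card_cent_eq E h20]
  have hdiv : Nat.card M ∣ T.card * cT := by
    have := CfsgLib.OrderCount.dvd_sum_of_conj_invariant T (fun _ => cT) (Nat.card M) hTconj
      (fun _ _ _ => rfl) (fun u hu => by
        rw [← hcs u hu, mul_comm, card_mul_index])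
    rwa [Finset.sum_const, smul_eq_mul] at this
  obtain ⟨L, hL⟩ := hdiv
  obtain ⟨S⟩ : Nonempty (Sylow 2 M) := inferInstance
  have hS8 : Nat.card (S : Subgroup M) ≤ 8 := by
    obtain ⟨k, hk⟩ := IsPGroup.iff_card.1 S.2
    rw [hk]
    refine (Nat.pow_le_pow_right two_pos (show k ≤ 3 by
      by_contra hlt
      have h16 : 16 ∣ Nat.card M := (show (16 : ℕ) ∣ 2 ^ k from (show 16 = 2 ^ 4 by norm_num).dvd.trans (pow_dvd_pow 2 (by omega))).trans
        (by rw [← hk]; exact (S : Subgroup M).card_subgroup_dvd_card)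
      rw [hcard] at h16
      have h8 : q % 8 = 3 := hF ▸ CfsgLib.ReeType.three_pow_mod m
      have hcop : Nat.Coprime 16 (q ^ 3) :=
        Nat.Coprime.pow_right 3 (by rw [show 16 = 2 ^ 4 by norm_num]; exact Nat.Coprime.pow_left 4 (Nat.coprime_two_left.2 hodd))
      have h := hcop.dvd_of_dvd_mul_left h16
      rw [Nat.dvd_iff_mod_eq_zero, Nat.mul_mod, Nat.add_mod, Nat.pow_mod] at h
      have h1 : (q - 1) % 16 = (q % 16 + 15) % 16 := by omega
      rw [h1] at h
      have h2 : q % 16 = 3 ∨ q % 16 = 11 := by omega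
      rcases h2 with e | e <;> rw [e] at h <;> norm_num at h)).trans (by norm_num)
  have hL7 : T.card * cT ≤ 7 * Nat.card M := by
    letI : Fintype (S : Subgroup M) := Fintype.ofFinite _
    set U := (Finset.univ.filter fun u : (S : Subgroup M) => (u : M) ∈ T) with hU
    have hU7 : U.card ≤ 7 := by
      have h1 : U ⊆ Finset.univ.erase 1 := fun u hu => Finset.mem_erase.2 ⟨fun e => by
        have := hTinv _ (Finset.mem_filter.1 hu).2
        rw [e, OneMemClass.coe_one, orderOf_one] at this
        norm_num at this, Finset.mem_univ _⟩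
      have h2 := Finset.card_le_card h1
      rw [Finset.card_erase_of_mem (Finset.mem_univ _), Finset.card_univ, ← Nat.card_eq_fintype_card] at h2
      omega
    set cl := fun u : (S : Subgroup M) => Finset.univ.filter fun x : M => ∃ g ∈ (⊤ : Subgroup M), g * (u : M) * g⁻¹ = x with hcl
    have hsub : T ⊆ U.biUnion cl := by
      intro s hs
      obtain ⟨Q, hQ⟩ := (IsPGroup.of_card (n := 1) (p := 2)
        (show Nat.card (zpowers s) = 2 ^ 1 by rw [Nat.card_zpowers, hTinv s hs, pow_one])).exists_le_sylow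
      obtain ⟨g, hg⟩ := MulAction.exists_smul_eq M Q S
      have hm : g * s * g⁻¹ ∈ (S : Subgroup M) := by
        rw [← hg, Sylow.coe_subgroup_smul]; exact ⟨s, hQ (mem_zpowers s), rfl⟩
      exact Finset.mem_biUnion.2 ⟨⟨_, hm⟩, Finset.mem_filter.2 ⟨Finset.mem_univ _, hTconj g s hs⟩,
        Finset.mem_filter.2 ⟨Finset.mem_univ _, g⁻¹, mem_top _, by group⟩⟩
    calc T.card * cT ≤ (U.biUnion cl).card * cT := Nat.mul_le_mul_right _ (Finset.card_le_card hsub)
      _ ≤ (∑ u ∈ U, (cl u).card) * cT := Nat.mul_le_mul_right _ Finset.card_biUnion_le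
      _ = ∑ u ∈ U, (cl u).card * cT := Finset.sum_mul _ _ _
      _ = ∑ u ∈ U, Nat.card M := Finset.sum_congr rfl fun u hu => by
          have h := card_conj_mul (⊤ : Subgroup M) (u : M)
          rw [top_inf_eq, hcs _ (Finset.mem_filter.1 hu).2, card_top, Nat.card_eq_fintype_card,
            Fintype.card_subtype] at h
          exact h
      _ ≤ 7 * Nat.card M := by rw [Finset.sum_const, smul_eq_mul]; exact Nat.mul_le_mul_right _ hU7
  have hL7' : L ≤ 7 := by
    rw [hL, mul_comm 7] at hL7
    exact Nat.le_of_mul_le_mul_left hL7 Nat.card_pos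
  -- counting
  have hAc : A.card * c = 2 * (Nat.card M * L) := by
    rw [← hL, hcT, CentData.card_cent_eq E h20, ← smul_eq_mul A.card, ← Finset.sum_const,
      ← Finset.sum_congr rfl hcount, ← Finset.sum_mul, hswap,
      show q ^ 2 - 1 = q ^ 2 - 1 ^ 2 by norm_num, Nat.sq_sub_sq]
    ring
  obtain ⟨c', hc'⟩ := hq3c
  have hkey : A.card * c' = 2 * L * ((q ^ 3 + 1) * (q - 1)) := by
    refine Nat.eq_of_mul_eq_mul_left (show 0 < q ^ 3 by positivity) ?_
    calc q ^ 3 * (A.card * c') = A.card * c := by rw [hc']; ring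
      _ = q ^ 3 * (2 * L * ((q ^ 3 + 1) * (q - 1))) := by rw [hAc, hcard]; ring
  have hA1 : q ^ 3 ∣ A.card + 1 := by
    have h := CfsgLib.OrderCount.dvd_card_pow_eq_one (G := M) (m := q ^ 3) (hcard ▸ dvd_mul_right _ _)
    suffices e : Nat.card {x : M // x ^ (q ^ 3) = 1} = A.card + 1 by rwa [e] at h
    have hexp : ∀ j : ℕ, ∀ x : M, x ^ (3 ^ (j + 1)) = 1 → x ^ 3 = 1 := by
      intro j
      induction j with
      | zero => intro x hx; simpa using hx
      | succ j ih =>
        intro x hx
        refine ih x ?_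
        rw [pow_succ, pow_mul]
        refine h9 _ ?_
        rw [← pow_mul, show 3 ^ j * 9 = 3 ^ (j + 1 + 1) by ring, hx]
    rw [Nat.card_eq_fintype_card, Fintype.card_subtype]
    rw [show (Finset.univ.filter fun x : M => x ^ (q ^ 3) = 1) = insert 1 A from Finset.ext fun x => ?_,
      Finset.card_insert_of_notMem (by simp [hA])]
    simp only [Finset.mem_filter, Finset.mem_univ, true_and, Finset.mem_insert, hA]
    constructor
    · intro hx
      rw [hF, ← pow_mul, show (2 * m + 1) * 3 = (6 * m + 2) + 1 by ring] at hx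
      have h3 := hexp _ x hx
      rcases eq_or_ne x 1 with e | e
      · exact Or.inl e
      · exact Or.inr (orderOf_eq_prime h3 e)
    · rintro (rfl | hx)
      · exact one_pow _
      · refine orderOf_dvd_iff_pow_eq_one.1 ?_
        rw [hx, hF, ← pow_mul]
        exact dvd_pow_self 3 (by omega)
  refine arith hq27 hL7' hA1 ?_ hkey ?_
  · exact Finset.card_pos.2 ⟨y₀, Finset.mem_filter.2 ⟨Finset.mem_univ _, hy₀.1⟩⟩
  · refine Nat.pos_of_ne_zero fun e => ?_
    rw [e, mul_zero] at hc'
    exact Nat.card_pos.ne' hc'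

end CfsgLib.EqualOrderConj
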