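import Cfsg.Agent.Lib.EqualOrderConj.Basic
import Cfsg.Agent.Lib.EqualOrderConj.PowerTwo
import Cfsg.Agent.Lib.EqualOrderConj.ReeType
import Cfsg.Agent.Lib.BenderQ.Rows
import Cfsg.Agent.Lib.Walter.RankFour.Assembly
import Cfsg.Agent.Lib.Walter.EightShell

/-!
Simple normal subgroups of groups in which abelian subgroups of equal order are conjugate, from Walter's
theorem.
-/

set_option autoImplicit false
set_option linter.unusedSectionVars false
set_option linter.style.haveILetI false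

namespace CfsgLib.EqualOrderConj

open Subgroup CfsgLib.Walter

universe u

local instance factTwoMain : Fact (Nat.Prime 2) := ⟨Nat.prime_two⟩
local instance factThreeMain : Fact (Nat.Prime 3) := ⟨Nat.prime_three⟩

/-- The theorem of Janko and Thompson, with the field. -/
def OrderTheoremFull : Prop :=
  ∀ (G : Type u) [Group G] [Finite G] [IsSimpleGroup G],
    (∀ P : Sylow 2 G, ∀ a b : P, a * b = b * a) →
    ∀ (F : Type) [Field F] [Fintype F], 3 ≤ Fintype.card F → ∀ t : G, orderOf t = 2 →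
      Nonempty (centralizer ({t} : Set G) ≃*
        Multiplicative (ZMod 2) × Matrix.ProjectiveSpecialLinearGroup (Fin 2) F) →
      (∃ m : ℕ, 1 ≤ m ∧ Fintype.card F = 3 ^ (2 * m + 1) ∧
        Nat.card G = (3 ^ (2 * m + 1)) ^ 3 * ((3 ^ (2 * m + 1)) ^ 3 + 1) * (3 ^ (2 * m + 1) - 1)) ∨
      ((Fintype.card F = 4 ∨ Fintype.card F = 5) ∧ Cfsg.IsJ1 G)

theorem orderTheorem_of_full (h : OrderTheoremFull.{u}) : OrderTheorem.{u} := by
  intro G _ _ _ hab F _ _ hq t ht hC
  rcases h G hab F hq t ht hC with ⟨m, hm, -, hcard⟩ | ⟨-, hJ⟩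
  · exact Or.inr ⟨inferInstance, m, hm, hcard⟩
  · exact Or.inl hJ

/-- The arithmetic of the order of a Ree group at the prime two. -/
theorem ree_two (m : ℕ) :
    8 ∣ (3 ^ (2 * m + 1)) ^ 3 * ((3 ^ (2 * m + 1)) ^ 3 + 1) * (3 ^ (2 * m + 1) - 1) ∧
    ¬ 16 ∣ (3 ^ (2 * m + 1)) ^ 3 * ((3 ^ (2 * m + 1)) ^ 3 + 1) * (3 ^ (2 * m + 1) - 1) := by
  have h := CfsgLib.ReeType.three_pow_mod m
  set q := 3 ^ (2 * m + 1)
  have h16 : q % 16 = 3 ∨ q % 16 = 11 := by omega
  have e : (q ^ 3 * (q ^ 3 + 1) * (q - 1)) % 16 = 8 := by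
    rcases h16 with e | e
    · obtain ⟨j, hj⟩ : ∃ j, q = 16 * j + 3 := ⟨q / 16, by omega⟩
      rw [hj, show 16 * j + 3 - 1 = 16 * j + 2 by omega]
      simp [Nat.mul_mod, Nat.add_mod, Nat.pow_mod]
    · obtain ⟨j, hj⟩ : ∃ j, q = 16 * j + 11 := ⟨q / 16, by omega⟩
      rw [hj, show 16 * j + 11 - 1 = 16 * j + 10 by omega]
      simp [Nat.mul_mod, Nat.add_mod, Nat.pow_mod]
  constructor <;> omega

variable {G : Type u} [Group G] [Finite G] (M : Subgroup G) [M.Normal]
  (hs : IsSimpleGroup ↥M) (hna : ¬ IsMulCommutative ↥M)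

include hs hna in
/-- Two commuting involutions: if one lies in `M`, so does the other. -/
theorem mem_of_commute (hB : AbelianConj G) (h4 : 4 ∣ Nat.card ↥M) {x y : G} (hx : x ^ 2 = 1)
    (hy : y ^ 2 = 1) (hc : x * y = y * x) (hxM : x ∈ M) (hx1 : x ≠ 1) : y ∈ M := by
  rcases eq_or_ne y 1 with rfl | hy1
  · exact M.one_mem
  rcases eq_or_ne x y with rfl | hne
  · exact hxM
  obtain ⟨A, hA, hAc, -, -, hyA⟩ := exists_four (orderOf_eq_prime hx hx1) (orderOf_eq_prime hy hy1) hc hne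
  obtain ⟨K, hK⟩ := Sylow.exists_subgroup_card_pow_prime 2 (n := 2) (G := ↥M) (by norm_num; exact h4)
  have hKab : IsMulCommutative ↥(K.map M.subtype) := by
    refine ⟨⟨fun a b => Subtype.ext ?_⟩⟩
    have hp : IsPGroup 2 ↥K := IsPGroup.of_card hK
    have e : ∀ z ∈ K.map M.subtype, z⁻¹ = z := fun z hz => inv_eq_of_mul_eq_one_right (by
      rw [← pow_two]; exact sq_eq_one_of_isPGroup M hs hna hB (hp.map M.subtype) hz)
    show (a : G) * b = b * a
    calc (a : G) * b = ((a : G) * b)⁻¹ := (e _ (mul_mem a.2 b.2)).symm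
      _ = b * a := by rw [_root_.mul_inv_rev, e _ a.2, e _ b.2]
  obtain ⟨g, hg⟩ := hB (K.map M.subtype) A hKab hA (by
    rw [card_map_of_injective M.subtype_injective, hK, hAc]; norm_num)
  rw [hg] at hyA
  obtain ⟨z, hz, rfl⟩ := hyA
  exact (inferInstance : M.Normal).conj_mem z (map_subtype_le K hz) g

include hs hna in
theorem false_of_isRee (hD : CoreFree.{u}) (hF : FieldFree.{u}) (hO : OrderTheoremFull.{u})
    (hB : AbelianConj G) (hR : Cfsg.IsRee ↥M) : False := by
  classical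
  haveI := hs
  obtain ⟨-, m, hm, hcard⟩ := hR
  obtain ⟨h8, h16⟩ := ree_two m
  rw [← hcard] at h8 h16
  obtain ⟨S⟩ : Nonempty (Sylow 2 ↥M) := inferInstance
  obtain ⟨hsq, hScomm⟩ := sylow_elementary M hs hna hB S
  have hS8 : Nat.card (S : Subgroup ↥M) = 8 := by
    obtain ⟨k, hk⟩ := IsPGroup.iff_card.1 S.2
    have h1 : 2 ^ 3 ∣ 2 ^ k := hk ▸ S.pow_dvd_card_of_pow_dvd_card h8
    have h2 : ¬ 2 ^ 4 ∣ 2 ^ k := fun h => h16 (h.trans (hk ▸ (S : Subgroup ↥M).card_subgroup_dvd_card))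
    rw [Nat.pow_dvd_pow_iff_le_right (by norm_num)] at h1 h2
    rw [hk, show k = 3 by omega]; norm_num
  have hq27 : 27 ≤ 3 ^ (2 * m + 1) :=
    le_trans (by norm_num) (Nat.pow_le_pow_right (by norm_num) (show 3 ≤ 2 * m + 1 by omega))
  have hcomm : ∀ x ∈ (S : Subgroup ↥M), ∀ y ∈ (S : Subgroup ↥M), x * y = y * x := fun x hx y hy =>
    congrArg Subtype.val (hScomm.is_comm.comm ⟨x, hx⟩ ⟨y, hy⟩)
  have hns : ¬ Group.IsSolvable ↥M := fun h => hna ⟨⟨fun a b => IsSimpleGroup.comm_iff_isSolvable.2 h a b⟩⟩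
  by_cases hC : ∀ t : ↥M, orderOf t = 2 → Group.IsSolvable ↥(centralizer ({t} : Set ↥M))
  · obtain ⟨F, iF, iFt, hq, ⟨f⟩⟩ :=
      CfsgLib.SylTwoAbel.exists_psl_of_simple CfsgLib.GW.Done.classification hns S hcomm hC
    rw [Nat.card_congr f.toEquiv] at h8 h16
    rcases hq with ⟨hq, h5⟩ | ⟨n, hn, hq⟩
    · have ho : Odd (Fintype.card F) := ⟨Fintype.card F / 2, by omega⟩
      have := CfsgLib.Walter.card_mod_sixteen ho h8 h16
      omega
    · have h8F := CfsgLib.Walter.card_eq_eight hn hq h8 h16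
      have hc := CfsgLib.PSL2.card_psl (F := F)
      rw [← Nat.card_congr f.toEquiv, hcard, h8F] at hc
      norm_num at hc
      have h1 : 27 ^ 3 ≤ (3 ^ (2 * m + 1)) ^ 3 := Nat.pow_le_pow_left hq27 3
      have h2 : (3 ^ (2 * m + 1)) ^ 3 * 1 * 1 ≤
          (3 ^ (2 * m + 1)) ^ 3 * ((3 ^ (2 * m + 1)) ^ 3 + 1) * (3 ^ (2 * m + 1) - 1) :=
        Nat.mul_le_mul (Nat.mul_le_mul_left _ (by omega)) (by omega)
      omega
  · obtain ⟨E, -⟩ := RankFour.exists_setup hna S hS8 hsq (RankFour.exists_mem_not_isSolvable S hC)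
    obtain ⟨F, iF, iFt, hq, ⟨e⟩⟩ := hF ↥M E E.local_structure
      (hD ↥M E E.local_structure (E.isCoatom_all (smallCore hD ↥M)))
    letI : DecidableEq F := Classical.decEq F
    have hab : ∀ P : Sylow 2 ↥M, IsMulCommutative ↥(P : Subgroup ↥M) := fun P =>
      (sylow_elementary M hs hna hB P).2
    rcases hO ↥M (fun P a b => (hab P).is_comm.comm a b) F hq E.t E.orderOf_t ⟨e⟩ with
      ⟨m', hm', hFc, hcard'⟩ | ⟨-, hJ⟩
    · haveI : CharP F 3 := charP_of_card_eq_prime_pow hFc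
      have hE : Nonempty (CfsgLib.ReeType.CentData E.t F) := by
        refine ⟨⟨e, ?_⟩⟩
        set p := e ⟨E.t, mem_centralizer_singleton_iff.2 rfl⟩ with hp
        have hcen : ∀ z, p * z = z * p := fun z => by
          obtain ⟨w, rfl⟩ := e.surjective z
          rw [hp, ← map_mul, ← map_mul]
          exact congrArg e (Subtype.ext (mem_centralizer_singleton_iff.1 w.2).symm)
        have hp2 : p ^ 2 = 1 := by
          rw [hp, ← map_pow, show (⟨E.t, mem_centralizer_singleton_iff.2 rfl⟩ :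
            centralizer ({E.t} : Set ↥M)) ^ 2 = 1 from Subtype.ext (by
              rw [SubmonoidClass.coe_pow, OneMemClass.coe_one, ← E.orderOf_t, pow_orderOf_eq_one]), map_one]
        have hp1 : p ≠ 1 := fun h => E.ne (congrArg Subtype.val (e.map_eq_one_iff.1 h))
        obtain ⟨y, hy⟩ := exists_three (F := F)
        have hz : p.2 = 1 := by
          have hcy : Commute p.2 y := congrArg Prod.snd (hcen (1, y))
          have h3 := (CfsgLib.ReeType.centralizer_three hy).2.2 _ hcy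
          have h2 : p.2 ^ 2 = 1 := congrArg Prod.snd hp2
          rwa [pow_succ, h2, one_mul] at h3
        refine Prod.ext ?_ hz
        have key : ∀ z : Multiplicative (ZMod 2), z = 1 ∨ z = Multiplicative.ofAdd 1 := by decide
        exact (key p.1).resolve_left fun h => hp1 (Prod.ext h hz)
      obtain ⟨C⟩ := hE
      refine false_of_aut hab hm' hFc ?_ C (exists_aut M hB) fun y hy => ?_
      · rw [hFc, hcard', mul_assoc]
      · by_contra hy3
        have hy9 : orderOf y = 3 ^ (1 + 1) := orderOf_eq_prime_pow hy3 hy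
        obtain ⟨y₀, hy₀⟩ := exists_three (F := F)
        set K := centralizer ({y₀} : Set (Matrix.ProjectiveSpecialLinearGroup (Fin 2) F)) with hK
        have hd : 3 ^ 2 ∣ Nat.card ↥K := by
          rw [hK, (CfsgLib.ReeType.centralizer_three hy₀).1, hFc]
          exact pow_dvd_pow 3 (by omega)
        obtain ⟨H, hH⟩ := Sylow.exists_subgroup_card_pow_prime 3 hd
        set θ : ↥K →* G := M.subtype.comp (C.up.comp K.subtype) with hθ
        have hθi : Function.Injective θ :=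
          M.subtype_injective.comp (C.up_injective.comp K.subtype_injective)
        have h := pow_eq_one_of_conj hB (x := (y : G)) (n := 3) (A := H.map θ) ?_ ?_ ?_
        · exact hy3 (Subtype.ext (by rw [SubmonoidClass.coe_pow, h, OneMemClass.coe_one]))
        · refine ⟨⟨fun a b => Subtype.ext ?_⟩⟩
          obtain ⟨_, a', -, rfl⟩ := a
          obtain ⟨_, b', -, rfl⟩ := b
          show θ a' * θ b' = θ b' * θ a'
          rw [← map_mul, ← map_mul]
          exact congrArg θ (Subtype.ext ((CfsgLib.ReeType.centralizer_three hy₀).2.1 a' b'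
            (mem_centralizer_singleton_iff.1 a'.2) (mem_centralizer_singleton_iff.1 b'.2)))
        · rw [card_map_of_injective hθi, hH, orderOf_coe, hy9]
        · rintro _ ⟨a, -, rfl⟩
          rw [← map_pow, show a ^ 3 = 1 from Subtype.ext ((CfsgLib.ReeType.centralizer_three hy₀).2.2 a
            (mem_centralizer_singleton_iff.1 a.2)), map_one]
    · obtain ⟨-, hJ⟩ := hJ
      rw [hcard] at hJ
      have h1 : 27 ^ 3 ≤ (3 ^ (2 * m + 1)) ^ 3 := Nat.pow_le_pow_left hq27 3
      have h2 : (3 ^ (2 * m + 1)) ^ 3 * (27 ^ 3 + 1) * 1 ≤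
          (3 ^ (2 * m + 1)) ^ 3 * ((3 ^ (2 * m + 1)) ^ 3 + 1) * (3 ^ (2 * m + 1) - 1) :=
        Nat.mul_le_mul (Nat.mul_le_mul_left _ (by omega)) (by omega)
      omega

include hs hna in
/-- The classification from Walter's theorem. -/
theorem classification (hD : CoreFree.{u}) (hF : FieldFree.{u}) (hO : OrderTheoremFull.{u})
    (hB : AbelianConj G) :
    (∃ (F : Type) (_ : Field F) (_ : Fintype F), (Fintype.card F = 2 ^ 2 ∨ Fintype.card F = 2 ^ 3 ∨ Fintype.card F = 2 ^ 5) ∧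
        Nonempty (↥M ≃* Matrix.SpecialLinearGroup (Fin 2) F)) ∨
    (∃ (F : Type) (_ : Field F) (_ : Fintype F), 5 ≤ Fintype.card F ∧ (Fintype.card F % 8 = 3 ∨ Fintype.card F % 8 = 5) ∧
        Nonempty (↥M ≃* Matrix.ProjectiveSpecialLinearGroup (Fin 2) F)) ∨
    Cfsg.Spor.IsoJ1 ↥M := by
  classical
  haveI := hs
  obtain ⟨S⟩ : Nonempty (Sylow 2 ↥M) := inferInstance
  rcases RankFour.walter_of hD hF (orderTheorem_of_full hO) hna S (sylow_elementary M hs hna hB S).2 with
    ⟨a, ha2, F, iF, iFt, hFc, ⟨e⟩⟩ | ⟨F, iF, iFt, hq, ⟨e⟩⟩ | hR | hJ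
  · haveI : CharP F 2 := charP_of_card_eq_prime_pow hFc
    obtain ⟨g⟩ := CfsgLib.BenderQ.nonempty_sl_equiv_psl F
    set f := e.trans g with hf
    set ι : Matrix.SpecialLinearGroup (Fin 2) F →* G := M.subtype.comp f.symm.toMonoidHom with hι
    have hιi : Function.Injective ι := M.subtype_injective.comp f.symm.injective
    have hrange : ι.range = M := by
      ext x
      exact ⟨fun ⟨z, hz⟩ => hz ▸ (f.symm z).2, fun hx => ⟨f ⟨x, hx⟩, by simp [hι]⟩⟩
    have h4 : 4 ∣ Nat.card ↥M := by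
      rw [Nat.card_congr f.toEquiv, CfsgLib.Schur.natCard_slTwo, hFc]
      exact dvd_mul_of_dvd_left ((show (4 : ℕ) = 2 ^ 2 by norm_num).dvd.trans (pow_dvd_pow 2 ha2)) _
    haveI hN : ι.range.Normal := hrange ▸ inferInstance
    have ha := exponent_of_conj ι hιi hFc ha2 hN (fun x hx y hy hc hxM hx1 => by
      rw [hrange] at hxM ⊢
      exact mem_of_commute M hs hna hB h4 hx hy hc hxM hx1) (sq_eq_one M hs hna hB) hB
    refine Or.inl ⟨F, iF, iFt, ?_, ⟨f⟩⟩
    rcases ha with rfl | rfl | rfl <;> simp [hFc]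
  · refine Or.inr (Or.inl ⟨F, iF, iFt, ?_, hq, ⟨e⟩⟩)
    by_contra h5
    have h3 : Fintype.card F = 3 := by omega
    have hc := CfsgLib.PSL2.card_psl (F := F)
    rw [← Nat.card_congr e.toEquiv, h3] at hc
    norm_num at hc
    exact card_ne_twelve (X := ↥M) (by omega)
  · exact (false_of_isRee M hs hna hD hF hO hB hR).elim
  · exact Or.inr (Or.inr (isoJ1_of_isJ1 hJ))

end CfsgLib.EqualOrderConj
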