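import Cfsg.Agent.Lib.ReeType.Basics
import Cfsg.Agent.Lib.PSL2.Borel

/-!
The elements of order three of `PSL₂(q)` for a power `q` of three.
-/

set_option autoImplicit false
set_option linter.unusedSectionVars false

namespace CfsgLib.EqualOrderConj

open Matrix Subgroup CfsgLib.ReeType CfsgLib.SL2Char CfsgLib.SL2Tori

variable {F : Type} [Field F] [Fintype F] [DecidableEq F] [CharP F 3]

local notation "PSL2" => Matrix.ProjectiveSpecialLinearGroup (Fin 2) F

local instance factThreePsl : Fact (Nat.Prime 3) := ⟨Nat.prime_three⟩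

theorem two_mul_card_psl :
    2 * Nat.card PSL2 = (Fintype.card F + 1) * (Fintype.card F * (Fintype.card F - 1)) := by
  have h := CfsgLib.PSL2.card_psl (F := F)
  obtain ⟨n, -, hn⟩ := FiniteField.card F 3
  have ho : Odd (Fintype.card F) := by rw [hn]; exact (by decide : Odd 3).pow
  rwa [CfsgLib.PSL2.gcd_eq_two ho] at h

theorem exists_three : ∃ y : PSL2, orderOf y = 3 := by
  refine exists_prime_orderOf_dvd_card' 3 ?_
  refine (Nat.Coprime.dvd_mul_left (by norm_num : Nat.Coprime 3 2)).1 ?_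
  rw [two_mul_card_psl]
  exact dvd_mul_of_dvd_right (dvd_mul_of_dvd_left three_dvd_card _) _

/-- The centraliser of an element of order three is the Sylow 3-subgroup containing it. -/
theorem sylow_eq_centralizer (P : Sylow 3 PSL2) {y : PSL2} (hy : orderOf y = 3) (hyP : y ∈ P) :
    (P : Subgroup PSL2) = centralizer ({y} : Set PSL2) := by
  classical
  obtain ⟨n, -, hn⟩ := FiniteField.card F 3
  obtain ⟨y₀, hy₀⟩ := exists_three (F := F)
  have hc : ∀ z : PSL2, orderOf z = 3 → Nat.card (centralizer ({z} : Set PSL2)) = 3 ^ (n : ℕ) :=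
    fun z hz => (centralizer_three hz).1.trans hn
  have hfac : (Nat.card PSL2).factorization 3 = n := by
    have h2 := congrArg (fun m => m.factorization 3) (two_mul_card_psl (F := F))
    have hq1 : ¬ 3 ∣ (Fintype.card F + 1) := fun h => by
      have := (Nat.dvd_add_right (three_dvd_card (F := F))).1 h; omega
    have hq2 : ¬ 3 ∣ (Fintype.card F - 1) := fun h => by
      have h1 : 1 ≤ Fintype.card F := Fintype.card_pos
      have := Nat.dvd_sub (three_dvd_card (F := F)) h
      rw [show Fintype.card F - (Fintype.card F - 1) = 1 by omega] at this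
      omega
    have h1 : 1 < Fintype.card F := Fintype.one_lt_card
    simp only [Nat.factorization_mul (show (2 : ℕ) ≠ 0 by norm_num) Nat.card_pos.ne',
      Nat.factorization_mul (show Fintype.card F + 1 ≠ 0 by omega)
        (show Fintype.card F * (Fintype.card F - 1) ≠ 0 from Nat.mul_ne_zero (by omega) (by omega)),
      Nat.factorization_mul (show Fintype.card F ≠ 0 by omega) (show Fintype.card F - 1 ≠ 0 by omega),
      Finsupp.add_apply, Nat.factorization_eq_zero_of_not_dvd hq1,
      Nat.factorization_eq_zero_of_not_dvd hq2,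
      Nat.factorization_eq_zero_of_not_dvd (show ¬ 3 ∣ 2 by norm_num)] at h2
    rw [hn, Nat.prime_three.factorization_pow] at h2
    simpa using h2
  let P₀ : Sylow 3 PSL2 := Sylow.ofCard (centralizer ({y₀} : Set PSL2)) (by rw [hc y₀ hy₀, hfac])
  obtain ⟨g, hg⟩ := MulAction.exists_smul_eq PSL2 P₀ P
  have hPc : Nat.card (P : Subgroup PSL2) = 3 ^ (n : ℕ) := by rw [P.card_eq_multiplicity, hfac]
  refine eq_of_le_of_card_ge ?_ (by rw [hPc, hc y hy])
  intro x hx
  refine mem_centralizer_singleton_iff.2 ?_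
  rw [← hg] at hx hyP
  obtain ⟨a, ha, rfl⟩ : x ∈ ((centralizer ({y₀} : Set PSL2)).map (MulAut.conj g).toMonoidHom) := hx
  obtain ⟨b, hb, rfl⟩ : y ∈ ((centralizer ({y₀} : Set PSL2)).map (MulAut.conj g).toMonoidHom) := hyP
  exact ((centralizer_three hy₀).2.1 a b (mem_centralizer_singleton_iff.1 ha)
    (mem_centralizer_singleton_iff.1 hb)).map (MulAut.conj g).toMonoidHom

theorem sylow_cube (P : Sylow 3 PSL2) {y : PSL2} (hyP : y ∈ P) : y ^ 3 = 1 := by
  obtain ⟨y₀, hy₀⟩ := exists_three (F := F)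
  obtain ⟨P₀, hP₀⟩ := (IsPGroup.of_card (n := 1) (p := 3)
    (show Nat.card (zpowers y₀) = 3 ^ 1 by rw [Nat.card_zpowers, hy₀, pow_one])).exists_le_sylow
  obtain ⟨g, hg⟩ := MulAction.exists_smul_eq PSL2 P₀ P
  rw [← hg] at hyP
  obtain ⟨a, ha, rfl⟩ : y ∈ ((P₀ : Subgroup PSL2).map (MulAut.conj g).toMonoidHom) := hyP
  rw [sylow_eq_centralizer P₀ hy₀ (hP₀ (mem_zpowers y₀))] at ha
  rw [← map_pow, (centralizer_three hy₀).2.2 a (mem_centralizer_singleton_iff.1 ha), map_one]

theorem orderOf_eq_three (P : Sylow 3 PSL2) {y : PSL2} (hyP : y ∈ P) (hy1 : y ≠ 1) : orderOf y = 3 :=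
  orderOf_eq_prime (sylow_cube P hyP) hy1

theorem sylow_eq_of_mem (P Q : Sylow 3 PSL2) {y : PSL2} (hP : y ∈ P) (hQ : y ∈ Q) (hy1 : y ≠ 1) :
    P = Q :=
  Sylow.ext ((sylow_eq_centralizer P (orderOf_eq_three P hP hy1) hP).trans
    (sylow_eq_centralizer Q (orderOf_eq_three P hP hy1) hQ).symm)

theorem card_sylow_three (P : Sylow 3 PSL2) : Nat.card (P : Subgroup PSL2) = Fintype.card F := by
  obtain ⟨y₀, hy₀⟩ := exists_three (F := F)
  obtain ⟨P₀, hP₀⟩ := (IsPGroup.of_card (n := 1) (p := 3)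
    (show Nat.card (zpowers y₀) = 3 ^ 1 by rw [Nat.card_zpowers, hy₀, pow_one])).exists_le_sylow
  have h := sylow_eq_centralizer P₀ hy₀ (hP₀ (mem_zpowers y₀))
  rw [P.card_eq_multiplicity, ← P₀.card_eq_multiplicity, h, (centralizer_three hy₀).1]

/-- There are `q + 1` Sylow 3-subgroups. -/
theorem card_sylow_psl : Nat.card (Sylow 3 PSL2) = Fintype.card F + 1 := by
  classical
  obtain ⟨P, hP⟩ := CfsgLib.PSL2.exists_sylow_normalizer (F := F) 3 OnePoint.infty
  have hle : CfsgLib.PSL2.pslPointStab (OnePoint.infty : OnePoint F) ≤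
      normalizer ((P : Subgroup PSL2) : Set PSL2) := fun g hg =>
    hP g (CfsgLib.PSL2.mem_pslPointStab.1 hg)
  have hd : Nat.card (Sylow 3 PSL2) ∣ Fintype.card F + 1 := by
    rw [Sylow.card_eq_index_normalizer P, ← CfsgLib.PSL2.index_pslPointStab (OnePoint.infty : OnePoint F)]
    exact index_dvd_of_le hle
  have hn1 : Nat.card (Sylow 3 PSL2) ≠ 1 := by
    intro h
    obtain ⟨hs, -⟩ := Nat.card_eq_one_iff_unique.1 h
    obtain ⟨y₀, hy₀⟩ := exists_three (F := F)
    obtain ⟨P₀, hP₀⟩ := (IsPGroup.of_card (n := 1) (p := 3)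
      (show Nat.card (zpowers y₀) = 3 ^ 1 by rw [Nat.card_zpowers, hy₀, pow_one])).exists_le_sylow
    have hnorm : normalizer ((P : Subgroup PSL2) : Set PSL2) = ⊤ := by
      rw [← index_eq_one]; exact (Sylow.card_eq_index_normalizer P).symm.trans h
    -- all elements of order three would commute
    have hone : ∀ z : PSL2, orderOf z = 3 → Commute z y₀ := fun z hz => by
      obtain ⟨Pz, hPz⟩ := (IsPGroup.of_card (n := 1) (p := 3)
        (show Nat.card (zpowers z) = 3 ^ 1 by rw [Nat.card_zpowers, hz, pow_one])).exists_le_sylow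
      have hz0 : z ∈ P₀ := Subsingleton.elim Pz P₀ ▸ hPz (mem_zpowers z)
      rw [show z ∈ P₀ ↔ z ∈ (P₀ : Subgroup PSL2) from Iff.rfl,
        sylow_eq_centralizer P₀ hy₀ (hP₀ (mem_zpowers y₀))] at hz0
      exact mem_centralizer_singleton_iff.1 hz0
    obtain ⟨k, b, hb, hk⟩ := exists_transvection hy₀
    have htr : ∀ x : F, x ≠ 0 → ∀ l : Matrix.SpecialLinearGroup (Fin 2) F,
        orderOf (prj (l * (bEl (1 : Fˣ) x : Matrix.SpecialLinearGroup (Fin 2) F) * l⁻¹)) = 3 := by
      intro x hx l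
      refine orderOf_eq_prime ?_ fun e => hx ?_
      · rw [map_mul, map_mul, map_inv, conj_pow, ← map_pow, bEl_one_pow, CharP.cast_eq_zero, zero_mul,
          bEl_one_zero, map_one]
        group
      · rw [map_mul, map_mul, map_inv, conj_eq_one_iff] at e
        exact transvection_inj (e.trans (by simp only [bEl_one_zero, map_one]))
    set w : Matrix.SpecialLinearGroup (Fin 2) F :=
      ⟨!![0, 1; -1, 0], by simp [Matrix.det_fin_two]⟩ with hw
    have hcw := hone _ (htr b hb (k * w))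
    rw [hk, map_mul prj (k * _), map_mul prj k, map_mul prj (k * w * _), map_mul prj (k * w),
      map_mul prj k w, map_inv, map_inv, map_mul prj k w, _root_.mul_inv_rev] at hcw
    have hcw2 : Commute (prj (w * (bEl (1 : Fˣ) b : Matrix.SpecialLinearGroup (Fin 2) F) * w⁻¹))
        (prj (bEl (1 : Fˣ) b : Matrix.SpecialLinearGroup (Fin 2) F)) := by
      have := hcw.map (MulAut.conj (prj k)⁻¹).toMonoidHom
      simp only [MulEquiv.coe_toMonoidHom, MulAut.conj_apply, inv_inv] at this
      rw [map_mul, map_mul, map_inv]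
      simpa [mul_assoc] using this
    obtain ⟨x, hx⟩ := commute_transvection hb hcw2
    have h0 := (prj_eq_one (F := F)).1 (show prj (w * (bEl (1 : Fˣ) b :
      Matrix.SpecialLinearGroup (Fin 2) F) * w⁻¹ * (bEl (1 : Fˣ) x :
      Matrix.SpecialLinearGroup (Fin 2) F)⁻¹) = 1 by rw [map_mul _ _ (_⁻¹), hx, map_inv, mul_inv_cancel])
    rcases h0 with e | e <;>
      [rw [mul_inv_eq_one] at e; rw [mul_inv_eq_iff_eq_mul] at e] <;>
      · have := congrArg (fun g : Matrix.SpecialLinearGroup (Fin 2) F =>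
          (g : Matrix (Fin 2) (Fin 2) F) 1 0) e
        simp only [Matrix.SpecialLinearGroup.coe_mul, Matrix.SpecialLinearGroup.coe_inv, neg_one_coe] at this
        simp [hw, bEl_coe, Matrix.adjugate_fin_two, Matrix.mul_apply, Fin.sum_univ_two] at this
        exact hb this
  -- the other Sylow subgroups form regular orbits
  have hmod : Fintype.card F ∣ Nat.card (Sylow 3 PSL2) - 1 := by
    letI : Fintype {Q : Sylow 3 PSL2 // Q ≠ P} := Fintype.ofFinite _
    let act : MulAction (P : Subgroup PSL2) {Q : Sylow 3 PSL2 // Q ≠ P} :=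
      { smul := fun g Q => ⟨(g : PSL2) • Q.1, fun e => Q.2 (by
          rw [← inv_smul_smul (g : PSL2) Q.1, e]
          exact Sylow.smul_eq_iff_mem_normalizer.2 (le_normalizer (inv_mem g.2)))⟩
        one_smul := fun Q => Subtype.ext (one_smul _ _)
        mul_smul := fun g h Q => Subtype.ext (mul_smul _ _ _) }
    have hstab : ∀ (Q : {Q : Sylow 3 PSL2 // Q ≠ P}) (g : (P : Subgroup PSL2)), g • Q = Q → g = 1 := by
      intro Q g hg
      by_contra hg1
      have h1 : (g : PSL2) • Q.1 = Q.1 := congrArg Subtype.val hg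
      have hmem : (g : PSL2) ∈ normalizer ((Q.1 : Subgroup PSL2) : Set PSL2) :=
        Sylow.smul_eq_iff_mem_normalizer.1 h1
      have hgQ : (g : PSL2) ∈ Q.1 := by
        have hz : IsPGroup 3 (zpowers (g : PSL2)) := IsPGroup.to_le P.2 (zpowers_le.2 g.2)
        have := hz.inf_normalizer_sylow Q.1
        have h2 : (g : PSL2) ∈ zpowers (g : PSL2) ⊓ normalizer ((Q.1 : Subgroup PSL2) : Set PSL2) :=
          ⟨mem_zpowers _, hmem⟩
        exact (this.le h2).2
      exact Q.2 (sylow_eq_of_mem Q.1 P hgQ g.2 fun e => hg1 (Subtype.ext e))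
    have hcard : Nat.card {Q : Sylow 3 PSL2 // Q ≠ P} = Nat.card (Sylow 3 PSL2) - 1 := by
      rw [Nat.card_eq_fintype_card, Fintype.card_subtype_compl, Fintype.card_subtype_eq,
        ← Nat.card_eq_fintype_card]
    rw [← hcard, ← card_sylow_three P, Nat.card_congr (MulAction.selfEquivSigmaOrbits (P : Subgroup PSL2)
      {Q : Sylow 3 PSL2 // Q ≠ P}), Nat.card_sigma]
    letI : Fintype (MulAction.orbitRel.Quotient (P : Subgroup PSL2) {Q : Sylow 3 PSL2 // Q ≠ P}) :=
      Fintype.ofFinite _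
    refine Finset.dvd_sum fun w _ => ?_
    rw [Nat.card_congr (MulAction.orbitEquivQuotientStabilizer _ _), ← index_eq_card]
    have : MulAction.stabilizer (P : Subgroup PSL2) w.out = ⊥ :=
      (eq_bot_iff_forall _).2 fun g hg => hstab _ g hg
    rw [this, index_bot]
  obtain ⟨k, hk⟩ := hmod
  have hpos : 0 < Nat.card (Sylow 3 PSL2) := Nat.card_pos
  have hle := Nat.le_of_dvd (by omega) hd
  rcases k with _ | k
  · rw [mul_zero] at hk; omega
  · rw [Nat.mul_succ] at hk; omega

/-- `PSL₂(q)` has `q² - 1` elements of order three. -/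
theorem card_orderOf_three : Nat.card {y : PSL2 // orderOf y = 3} = Fintype.card F ^ 2 - 1 := by
  classical
  have hmk : ∀ y : PSL2, orderOf y = 3 → ∃ P : Sylow 3 PSL2, y ∈ P := fun y hy => by
    obtain ⟨P, hP⟩ := (IsPGroup.of_card (n := 1) (p := 3)
      (show Nat.card (zpowers y) = 3 ^ 1 by rw [Nat.card_zpowers, hy, pow_one])).exists_le_sylow
    exact ⟨P, hP (mem_zpowers y)⟩
  let e : {y : PSL2 // orderOf y = 3} ≃ Σ P : Sylow 3 PSL2, {y : (P : Subgroup PSL2) // y ≠ 1} :=
    Equiv.ofBijective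
      (fun y => ⟨(hmk y.1 y.2).choose, ⟨⟨y.1, (hmk y.1 y.2).choose_spec⟩, fun e => by
        have := y.2
        rw [show y.1 = 1 from congrArg Subtype.val e, orderOf_one] at this
        norm_num at this⟩⟩)
      ⟨fun a b h => Subtype.ext (congrArg (fun s : Σ P : Sylow 3 PSL2,
        {y : (P : Subgroup PSL2) // y ≠ 1} => ((s.2.1 : (s.1 : Subgroup PSL2)) : PSL2)) h),
      by
        rintro ⟨P, ⟨⟨y, hy⟩, hy1⟩⟩
        have h3 : orderOf y = 3 := orderOf_eq_three P hy fun e => hy1 (Subtype.ext e)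
        refine ⟨⟨y, h3⟩, ?_⟩
        obtain rfl : (hmk y h3).choose = P :=
          sylow_eq_of_mem _ P (hmk y h3).choose_spec hy fun e => hy1 (Subtype.ext e)
        rfl⟩
  rw [Nat.card_congr e, Nat.card_sigma]
  have hone : ∀ P : Sylow 3 PSL2, Nat.card {y : (P : Subgroup PSL2) // y ≠ 1} = Fintype.card F - 1 := by
    intro P
    letI : Fintype (P : Subgroup PSL2) := Fintype.ofFinite _
    rw [Nat.card_eq_fintype_card, Fintype.card_subtype_compl, Fintype.card_subtype_eq,
      ← Nat.card_eq_fintype_card, card_sylow_three P]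
  rw [Finset.sum_congr rfl fun P _ => hone P, Finset.sum_const, Finset.card_univ,
    ← Nat.card_eq_fintype_card, card_sylow_psl, smul_eq_mul]
  rw [show Fintype.card F ^ 2 - 1 = Fintype.card F ^ 2 - 1 ^ 2 by norm_num, Nat.sq_sub_sq]

end CfsgLib.EqualOrderConj
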